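import Mathlib
import Cfsg.Agent.H486.HgTwo
import Cfsg.Agent.S2540
import Cfsg.Agent.LieClassical.Order72
import Cfsg.Agent.ClassicalGeometry.PSL2Basic

/-!
# Homogeneous finite groups: action on a normal elementary abelian subgroup (helper486, for S3924)
-/

set_option autoImplicit false
set_option linter.unusedSectionVars false

namespace Cfsg.Agent.H486.Hg.Rad

open Subgroup Cfsg.Agent.H486.Hg Cfsg.Agent.H486.Sn

universe u

variable {G : Type u} [Group G] [Finite G] {p : ℕ} [hp : Fact p.Prime] {k : ℕ} {V : Subgroup G}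

/-- the representation on `V`, as matrices -/
noncomputable def rhoM (c : V ≃* Multiplicative (Fin k → ZMod p)) (hV : ∀ g : G, ∀ x ∈ V, g * x * g⁻¹ ∈ V) :
    G →* Matrix (Fin k) (Fin k) (ZMod p) where
  toFun g := (exists_actM c (hV g)).choose
  map_one' := (exists_actM c (hV 1)).choose_spec.unique ActM.one
  map_mul' g h := (exists_actM c (hV (g * h))).choose_spec.unique
    ((exists_actM c (hV g)).choose_spec.mul (exists_actM c (hV h)).choose_spec)

theorem rhoM_spec (c : V ≃* Multiplicative (Fin k → ZMod p)) (hV : ∀ g : G, ∀ x ∈ V, g * x * g⁻¹ ∈ V) (g : G) :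
    ActM c g (rhoM c hV g) := (exists_actM c (hV g)).choose_spec

/-- the representation on `V` -/
noncomputable def rho (c : V ≃* Multiplicative (Fin k → ZMod p)) (hV : ∀ g : G, ∀ x ∈ V, g * x * g⁻¹ ∈ V) :
    G →* Matrix.GeneralLinearGroup (Fin k) (ZMod p) := MonoidHom.toHomUnits (rhoM c hV)

theorem rho_spec (c : V ≃* Multiplicative (Fin k → ZMod p)) (hV : ∀ g : G, ∀ x ∈ V, g * x * g⁻¹ ∈ V) (g : G) :
    ActM c g (rho c hV g).1 := rhoM_spec c hV g

theorem dichotomy (hH : Homog G) (c : V ≃* Multiplicative (Fin k → ZMod p))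
    (hV : ∀ g : G, ∀ x ∈ V, g * x * g⁻¹ ∈ V) (hk : 1 ≤ k) (hex : ¬ (k = 2 ∧ p ≤ 3)) :
    (∀ g : G, ∃ a : ZMod p, ActM c g (a • (1 : Matrix (Fin k) (Fin k) (ZMod p)))) ∨
      ∀ M : Matrix.SpecialLinearGroup (Fin k) (ZMod p), ∃ g : G, ActM c g M.1 := by
  have h1 := Cfsg.Agent.S2540.result (F := ZMod p) k hk (by rwa [ZMod.card]) (rho c hV).range (by
    rintro s _ ⟨g, rfl⟩
    obtain ⟨φ, hφ⟩ := exists_autM hH c (A := s.1) (B := (s⁻¹).1) (congrArg Subtype.val (mul_inv_cancel s))
      (congrArg Subtype.val (inv_mul_cancel s))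
    refine ⟨φ g, Units.ext ?_⟩
    have h2 := (rho_spec c hV g).aut (congrArg Subtype.val (mul_inv_cancel s)) hφ
    exact (rho_spec c hV (φ g)).unique h2)
  rcases h1 with h1 | h1
  · left
    intro g
    obtain ⟨a, ha⟩ := h1 _ ⟨g, rfl⟩
    exact ⟨a, ha ▸ rho_spec c hV g⟩
  · right
    intro M
    obtain ⟨g, hg⟩ := h1 ⟨M, rfl⟩
    refine ⟨g, ?_⟩
    have h2 := rho_spec c hV g
    rw [hg] at h2
    exact h2

theorem centralises_of_ker (c : V ≃* Multiplicative (Fin k → ZMod p)) (hV : ∀ g : G, ∀ x ∈ V, g * x * g⁻¹ ∈ V)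
    {g : G} (h : rho c hV g = 1) : ∀ x ∈ V, g * x * g⁻¹ = x := by
  have h1 := rho_spec c hV g
  rw [h] at h1
  exact ActM.centralises h1

/-- scalars commute, so a perfect group acts trivially -/
theorem trivial_of_scalar (c : V ≃* Multiplicative (Fin k → ZMod p)) (hV : ∀ g : G, ∀ x ∈ V, g * x * g⁻¹ ∈ V)
    (h : ∀ g : G, ∃ a : ZMod p, ActM c g (a • (1 : Matrix (Fin k) (Fin k) (ZMod p)))) {K : Subgroup G}
    (hK : ⁅K, K⁆ = K) : ∀ g ∈ K, ∀ x ∈ V, g * x * g⁻¹ = x := by
  have h1 : ⁅K, K⁆ ≤ (rho c hV).ker := by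
    rw [Subgroup.commutator_le]
    intro a _ b _
    rw [MonoidHom.mem_ker, map_commutatorElement, commutatorElement_eq_one_iff_mul_comm]
    apply Units.ext
    obtain ⟨r, hr⟩ := h a
    obtain ⟨s, hs⟩ := h b
    have h2 := (rho_spec c hV a).unique hr
    have h3 := (rho_spec c hV b).unique hs
    change (rho c hV a).1 * (rho c hV b).1 = (rho c hV b).1 * (rho c hV a).1
    rw [h2, h3]
    simp only [smul_mul_assoc, one_mul]
    rw [smul_comm]
  rw [hK] at h1
  intro g hg
  exact centralises_of_ker c hV (h1 hg)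

/-- a perfect group maps trivially to a solvable one -/
theorem ker_of_solvable {H A : Type*} [Group H] [Group A] [Group.IsSolvable A] {K : Subgroup H} (hK : ⁅K, K⁆ = K)
    (f : H →* A) : K ≤ f.ker := by
  have h1 : ⁅K.map f, K.map f⁆ = K.map f := by rw [← Subgroup.map_commutator, hK]
  have h2 : ∀ n, K.map f ≤ derivedSeries A n := by
    intro n
    induction n with
    | zero => exact le_top
    | succ n ih =>
      rw [derivedSeries_succ, ← h1]
      exact Subgroup.commutator_mono ih ih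
  obtain ⟨n, hn⟩ := Group.IsSolvable.solvable (G := A)
  have h3 := h2 n
  rw [hn, le_bot_iff, Subgroup.map_eq_bot_iff] at h3
  exact h3

theorem trivial_small (c : V ≃* Multiplicative (Fin 2 → ZMod p)) (hV : ∀ g : G, ∀ x ∈ V, g * x * g⁻¹ ∈ V)
    (hp3 : p ≤ 3) {K : Subgroup G} (hK : ⁅K, K⁆ = K) : ∀ g ∈ K, ∀ x ∈ V, g * x * g⁻¹ = x := by
  -- the determinant is trivial on `K`
  have hdet : K ≤ (Matrix.GeneralLinearGroup.det.comp (rho c hV)).ker := ker_of_solvable hK _
  let f : K →* Matrix.SpecialLinearGroup (Fin 2) (ZMod p) :=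
    { toFun := fun g => ⟨(rho c hV g).1, by
        have h1 := hdet g.2
        rw [MonoidHom.mem_ker] at h1
        exact congrArg Units.val h1⟩
      map_one' := Subtype.ext (by change (rho c hV 1).1 = 1; rw [map_one]; rfl)
      map_mul' := fun a b => Subtype.ext (by
        change (rho c hV (a * b)).1 = (rho c hV a).1 * (rho c hV b).1
        rw [map_mul]; rfl) }
  have hsol : Group.IsSolvable (Matrix.SpecialLinearGroup (Fin 2) (ZMod p)) := by
    refine Cfsg.Agent.LieClassical.Order72.isSolvable_of_card_dvd ?_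
    have hcard := Cfsg.Agent.ClassicalGeometry.PSL2Basic.card_SL2 (ZMod p)
    rw [ZMod.card] at hcard
    rw [hcard]
    have h2 := hp.out.two_le
    interval_cases p <;> norm_num
  have hK' : ⁅(⊤ : Subgroup K), (⊤ : Subgroup K)⁆ = ⊤ := by
    apply (Subgroup.map_injective K.subtype_injective)
    rw [Subgroup.map_commutator, ← MonoidHom.range_eq_map, Subgroup.range_subtype, hK]
  have h1 := ker_of_solvable hK' f
  intro g hg
  have h2 := h1 (mem_top (⟨g, hg⟩ : K))
  rw [MonoidHom.mem_ker] at h2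
  exact centralises_of_ker c hV (Units.ext (congrArg Subtype.val h2))

end Cfsg.Agent.H486.Hg.Rad
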