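import Mathlib
import Cfsg.Agent.H486.HgRad
import Cfsg.Agent.H486.HgSL
import Cfsg.Agent.Lib.Cores

/-!
# Homogeneous finite groups: perfect subgroups centralise `O_p(G)`, `p` odd (helper486, for S3924)
-/

set_option autoImplicit false
set_option linter.unusedSectionVars false

namespace Cfsg.Agent.H486.Hg.Rad

open Subgroup Cfsg.Agent.H486.Hg Cfsg.Agent.H486.Sn Cfsg.Agent.Lib.Cores

universe u

variable {G : Type u} [Group G] [Finite G] {p : ℕ} [hp : Fact p.Prime]

/-- all elements of order `p` are central in `O_p(G)` -/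
theorem omega_le (hH : Homog G) (h : Cfsg.pCore p G ≠ ⊥) {x : G} (hx : x ^ p = 1) :
    x ∈ Cfsg.pCore p G ∧ ∀ y ∈ Cfsg.pCore p G, x * y = y * x := by
  set Q := Cfsg.pCore p G with hQ
  by_cases hx1 : x = 1
  · subst hx1
    exact ⟨Q.one_mem, fun y _ => by rw [one_mul, mul_one]⟩
  have hQp : IsPGroup p Q := pCore_isPGroup p
  have : Nontrivial Q := (Subgroup.nontrivial_iff_ne_bot Q).2 h
  have h1 := hQp.center_nontrivial
  have h2 : p ∣ Nat.card (center Q) := by
    rcases (hQp.to_subgroup (center Q)).card_eq_or_dvd with h2 | h2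
    · exact absurd h2 (Finite.one_lt_card (α := center Q)).ne'
    · exact h2
  obtain ⟨z, hz⟩ := exists_prime_orderOf_dvd_card' (G := center Q) p h2
  have hzo : orderOf ((z : Q) : G) = p := by
    rw [Subgroup.orderOf_coe, Subgroup.orderOf_coe, hz]
  have hxo : orderOf x = p := orderOf_eq_prime hx hx1
  obtain ⟨φ, hφ⟩ := SLT.exists_aut_of_orderOf hH (hzo.trans hxo.symm)
  have hchar : Q.Characteristic := pCore_characteristic p
  have hφQ : ∀ (ψ : MulAut G) (y : G), y ∈ Q → ψ y ∈ Q := by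
    intro ψ y hy
    have h3 := Subgroup.characteristic_iff_map_eq.1 hchar ψ
    rw [← h3]
    exact ⟨y, hy, rfl⟩
  refine ⟨by rw [← hφ]; exact hφQ φ _ (z : Q).2, fun y hy => ?_⟩
  have h3 : φ⁻¹ y ∈ Q := hφQ φ⁻¹ y hy
  have h4 := congrArg Subtype.val ((Subgroup.mem_center_iff.1 z.2) ⟨φ⁻¹ y, h3⟩)
  change φ⁻¹ y * ((z : Q) : G) = ((z : Q) : G) * φ⁻¹ y at h4
  have h5 := congrArg φ h4
  rw [map_mul, map_mul, hφ, MulAut.apply_inv_self] at h5
  exact h5.symm

/-- the subgroup of the elements of order `p` -/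
theorem exists_V (hH : Homog G) (h : Cfsg.pCore p G ≠ ⊥) : ∃ V : Subgroup G, (∀ x, x ∈ V ↔ x ^ p = 1) ∧
    V ≤ Cfsg.pCore p G ∧ ∀ x ∈ V, ∀ y ∈ Cfsg.pCore p G, x * y = y * x := by
  refine ⟨{ carrier := {x | x ^ p = 1}
            mul_mem' := fun {x y} hx hy => ?_
            one_mem' := one_pow p
            inv_mem' := fun {x} hx => ?_ }, fun x => Iff.rfl, fun x hx => (omega_le hH h hx).1,
            fun x hx => (omega_le hH h hx).2⟩
  · change (x * y) ^ p = 1
    have h1 : Commute x y := (omega_le hH h hx).2 y (omega_le hH h hy).1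
    have hx' : x ^ p = 1 := hx
    have hy' : y ^ p = 1 := hy
    rw [h1.mul_pow, hx', hy', one_mul]
  · change x⁻¹ ^ p = 1
    have hx' : x ^ p = 1 := hx
    rw [inv_pow, hx', inv_one]

/-- the Sylow `p`-subgroups centralise `V` -/
theorem sylow_centralises (hp2 : p ≠ 2) (hH : Homog G) {V P : Subgroup G} (hV : ∀ x, x ∈ V ↔ x ^ p = 1)
    (hVc : ∀ x ∈ V, ∀ y ∈ V, x * y = y * x) (hP : IsSyl p (⊤ : Subgroup G) P) : ∀ a ∈ P, ∀ x ∈ V, a * x * a⁻¹ = x := by
  have hPV : ∀ a ∈ P, ∀ x ∈ V, a * x * a⁻¹ ∈ V := by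
    intro a _ x hx
    rw [hV] at hx ⊢
    rw [conj_pow, hx]; group
  obtain ⟨w, hw2, hwP, hwV⟩ := exists_w hp2 hH hVc hPV (hP.restrict le_YP le_top)
  intro a ha
  obtain ⟨b, hb, hwb, hba⟩ := exists_fixed hp2 hPV hP.isPGroup hw2 hwP hwV ha
  have hb1 : b = 1 := by
    by_contra hne
    obtain ⟨k, hk⟩ := hP.isPGroup ⟨b, hb⟩
    have hk' : b ^ p ^ k = 1 := congrArg Subtype.val hk
    obtain ⟨j, hj, hj2⟩ := (Nat.dvd_prime_pow hp.out).1 (orderOf_dvd_of_pow_eq_one hk')
    have hj0 : j ≠ 0 := by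
      rintro rfl
      rw [pow_zero] at hj2
      exact hne (orderOf_eq_one_iff.1 hj2)
    obtain ⟨i, rfl⟩ := Nat.exists_eq_succ_of_ne_zero hj0
    set z := b ^ p ^ i with hz
    have hzp : z ^ p = 1 := by
      rw [hz, ← pow_mul, ← pow_succ, ← Nat.succ_eq_add_one, ← hj2, pow_orderOf_eq_one]
    have hz1 : z ≠ 1 := by
      intro h
      have h1 := orderOf_dvd_of_pow_eq_one h
      rw [hj2, Nat.pow_dvd_pow_iff_le_right hp.out.one_lt] at h1
      omega
    have h1 := hwV z ((hV z).2 hzp)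
    have h2 : w z = z := by rw [hz, map_pow, hwb]
    rw [h2] at h1
    have h3 : z ^ 2 = 1 := by
      rw [pow_two]
      nth_rewrite 1 [h1]
      exact inv_mul_cancel z
    have h4 : z ^ (Nat.gcd p 2) = 1 := by
      rw [pow_gcd_eq_one]
      exact ⟨hzp, h3⟩
    rw [(Nat.coprime_primes hp.out Nat.prime_two).2 hp2, pow_one] at h4
    exact hz1 h4
  intro x hx
  rw [← hba x hx, hb1]
  group

/-- a perfect subgroup centralises `V`, `p` odd -/
theorem perfect_centralises_V (hp2 : p ≠ 2) (hH : Homog G) {V : Subgroup G} (hV : ∀ x, x ∈ V ↔ x ^ p = 1)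
    (hVc : ∀ x ∈ V, ∀ y ∈ V, x * y = y * x) {K : Subgroup G} (hK : ⁅K, K⁆ = K) :
    ∀ g ∈ K, ∀ x ∈ V, g * x * g⁻¹ = x := by
  have hVn : ∀ g : G, ∀ x ∈ V, g * x * g⁻¹ ∈ V := by
    intro a x hx
    rw [hV] at hx ⊢
    rw [conj_pow, hx]; group
  have hVp : IsPGroup p V := fun x => ⟨1, Subtype.ext (by simpa using (hV x).1 x.2)⟩
  obtain ⟨k, hk⟩ := IsPGroup.iff_card.1 hVp
  obtain ⟨c⟩ := exists_equiv (A := V) (p := p) (k := k) (fun x y => Subtype.ext (hVc x x.2 y y.2))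
    (fun x => Subtype.ext (by simpa using (hV x).1 x.2)) hk
  by_cases hk0 : k = 0
  · subst hk0
    rw [pow_zero, Subgroup.card_eq_one] at hk
    intro g _ x hx
    rw [hk, mem_bot] at hx
    rw [hx]; group
  by_cases hk1 : k = 1
  · subst hk1
    refine trivial_of_scalar c hVn (fun g => ?_) hK
    obtain ⟨M, hM⟩ := exists_actM c (hVn g)
    refine ⟨M 0 0, ?_⟩
    have h1 : M = M 0 0 • (1 : Matrix (Fin 1) (Fin 1) (ZMod p)) := by
      ext i j
      have hi : i = 0 := Subsingleton.elim _ _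
      have hj : j = 0 := Subsingleton.elim _ _
      subst hi; subst hj
      simp
    rw [← h1]; exact hM
  by_cases hex : k = 2 ∧ p ≤ 3
  · obtain ⟨rfl, hp3⟩ := hex
    exact trivial_small c hVn hp3 hK
  rcases dichotomy hH c hVn (by omega) hex with h | h
  · exact trivial_of_scalar c hVn h hK
  · exfalso
    obtain ⟨n, rfl⟩ : ∃ n, k = n + 1 := ⟨k - 1, by omega⟩
    have hn : n ≠ 0 := by omega
    set r : Fin (n + 1) → ZMod p := fun i => if i = 0 then 0 else 1 with hr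
    have hr0 : r 0 = 0 := by simp [hr]
    obtain ⟨M, hM⟩ := exists_mat r hr0
    obtain ⟨g, hg⟩ := h M
    have hgA : ActSh c g r := by
      intro x
      rw [hg x, mv, hM]
      rfl
    obtain ⟨P, hP⟩ := exists_isSyl p (⊤ : Subgroup G)
    have hPc := sylow_centralises hp2 hH hV hVc hP
    obtain ⟨t, ⟨j, rfl⟩, l, hl⟩ := exists_p_part (p := p) g 1
    set u := g ^ (1 + p ^ 1 * j) with hu
    have h1 : IsPGroup p (zpowers u) := by
      rintro ⟨_, i, rfl⟩
      refine ⟨l, Subtype.ext ?_⟩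
      change (u ^ i) ^ p ^ l = 1
      rw [← zpow_natCast, ← _root_.zpow_mul, mul_comm, _root_.zpow_mul, zpow_natCast, hl, _root_.one_zpow]
    obtain ⟨y, -, hle⟩ := hP.exists_conj_le le_top h1
    have h2 := hle (mem_zpowers u)
    rw [mem_cj] at h2
    have huV : ∀ x ∈ V, u * x * u⁻¹ = x := by
      intro x hx
      have h3 : y⁻¹ * x * y ∈ V := by
        have := hVn y⁻¹ x hx
        rwa [inv_inv] at this
      have h4 := hPc _ h2 _ h3
      have h5 : u * x * u⁻¹ = y * ((y⁻¹ * u * y) * (y⁻¹ * x * y) * (y⁻¹ * u * y)⁻¹) * y⁻¹ := by group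
      rw [h5, h4]
      group
    have h3 := hgA.pow hr0 (1 + p ^ 1 * j)
    have h4 : (1 + p ^ 1 * j) • r = r := by
      ext i
      simp
    rw [h4] at h3
    have h5 : ActSh c u 0 := fun x => by rw [sh_zero]; exact huV x x.2
    have h6 := congrFun (h3.unique h5) (Fin.last n)
    have h7 : Fin.last n ≠ 0 := by
      intro h8
      apply hn
      exact congrArg Fin.val h8
    simp [hr, h7] at h6

/-- a perfect group whose `p'`-elements centralise the normal subgroup `Q` centralises `Q` -/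
theorem centralises_of_coprime {Q : Subgroup G} [Q.Normal] {K : Subgroup G} (hK : ⁅K, K⁆ = K) (p : ℕ)
    [hp : Fact p.Prime]
    (h : ∀ g ∈ K, (orderOf g).Coprime p → ∀ x ∈ Q, g * x * g⁻¹ = x) : ∀ g ∈ K, ∀ x ∈ Q, g * x * g⁻¹ = x := by
  let ρ : G →* MulAut Q := MulAut.conjNormal
  have h1 : IsPGroup p (K.map ρ) := by
    rintro ⟨_, g, hg, rfl⟩
    obtain ⟨k, m, hm, hgo⟩ := Nat.exists_eq_pow_mul_and_not_dvd (orderOf_pos g).ne' p hp.out.ne_one
    refine ⟨k, Subtype.ext ?_⟩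
    change ρ g ^ p ^ k = 1
    rw [← map_pow]
    have h2 : (orderOf (g ^ p ^ k)).Coprime p := by
      have h3 : orderOf (g ^ p ^ k) ∣ m := orderOf_dvd_of_pow_eq_one (by
        rw [← pow_mul, ← hgo, pow_orderOf_eq_one])
      exact Nat.Coprime.coprime_dvd_left h3 ((hp.out.coprime_iff_not_dvd).2 hm).symm
    have h3 := h _ (K.pow_mem hg _) h2
    ext x
    rw [MulAut.conjNormal_apply, h3 x x.2]
    rfl
  have hs : Group.IsSolvable (K.map ρ) := by
    have := h1.isNilpotent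
    infer_instance
  have h2 := Cfsg.Agent.Schreier.Basic.le_ker_of_perfect ρ hK hs
  intro g hg x hx
  have h3 := h2 hg
  rw [MonoidHom.mem_ker] at h3
  have h4 := congrArg Subtype.val (DFunLike.congr_fun h3 (⟨x, hx⟩ : Q))
  rw [MulAut.conjNormal_apply] at h4
  exact h4

/-- **A perfect subgroup centralises `O_p(G)`, `p` odd.** -/
theorem perfect_centralises_odd (hp2 : p ≠ 2) (hH : Homog G) {K : Subgroup G} (hK : ⁅K, K⁆ = K) :
    ∀ g ∈ K, ∀ x ∈ Cfsg.pCore p G, g * x * g⁻¹ = x := by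
  by_cases h : Cfsg.pCore p G = ⊥
  · intro g _ x hx
    rw [h, mem_bot] at hx
    rw [hx]; group
  have hn : (Cfsg.pCore p G).Normal := Cfsg.Agent.Lib.Cores.pCore_normal p
  obtain ⟨V, hV, hVQ, hVc⟩ := exists_V hH h
  have hVc' : ∀ x ∈ V, ∀ y ∈ V, x * y = y * x := fun x hx y hy => hVc x hx y (hVQ hy)
  refine centralises_of_coprime hK p fun g hg hgo => ?_
  have h1 := perfect_centralises_V hp2 hH hV hVc' hK g hg
  exact fix_of_omega hp2 (pCore_isPGroup p) (φ := MulAut.conj g) (fun x hx => hn.conj_mem x hx g) hgo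
    (fun x _ => by rw [conj_pow_apply, pow_orderOf_eq_one]; group)
    (fun x _ hxp => h1 x ((hV x).2 hxp))

end Cfsg.Agent.H486.Hg.Rad
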