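import Mathlib
import Cfsg.Agent.H486.HgRadB

/-!
# Homogeneous finite groups: the involutions, if `O₂(G) ≠ 1` (helper486, for S3924)

`t_trick` : if all involutions of the homogeneous group `G` lie in the normal elementary abelian subgroup `V` of rank
at least 2, then `G` does not induce `GL(V)` on `V`.
-/

set_option autoImplicit false
set_option linter.unusedSectionVars false

namespace Cfsg.Agent.H486.Hg.Rad

open Subgroup Cfsg.Agent.H486.Hg Cfsg.Agent.H486.Sn Cfsg.Agent.Lib.Cores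

universe u

section mat

variable {k : ℕ} {i j : Fin k}

/-- the transvection `v_i += v_j` -/
def TV (i j : Fin k) : Matrix (Fin k) (Fin k) (ZMod 2) := Matrix.transvection i j 1

theorem TV_mulVec (i j : Fin k) (v : Fin k → ZMod 2) :
    (TV i j).mulVec v = v + Pi.single i (v j) := by
  rw [TV, Matrix.transvection, Matrix.add_mulVec, Matrix.one_mulVec]
  congr 1
  ext l
  simp [Matrix.mulVec, dotProduct, Matrix.single_apply, Pi.single_apply, ite_and, eq_comm]

theorem zz (a : ZMod 2) : a + a = 0 := by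
  have : ∀ a : ZMod 2, a + a = 0 := by decide
  exact this a

theorem z01 : ∀ a : ZMod 2, a = 0 ∨ a = 1 := by decide

theorem TV_sq (hij : i ≠ j) : TV i j * TV i j = 1 := by
  rw [Matrix.ext_iff_mulVec]
  intro v
  rw [← Matrix.mulVec_mulVec, TV_mulVec, TV_mulVec, Matrix.one_mulVec]
  ext l
  simp only [Pi.add_apply, Pi.single_apply, hij.symm, if_false, add_zero]
  split_ifs
  · rw [add_assoc, zz, add_zero]
  · rw [add_zero, add_zero]

/-- the element of order 3 -/
def DD (i j : Fin k) : Matrix (Fin k) (Fin k) (ZMod 2) := TV i j * TV j i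

theorem DD_cube (hij : i ≠ j) : DD i j * (DD i j * DD i j) = 1 := by
  rw [Matrix.ext_iff_mulVec]
  intro v
  simp only [DD, ← Matrix.mulVec_mulVec, TV_mulVec, Matrix.one_mulVec]
  ext l
  by_cases hi : l = i
  · subst hi
    simp [Pi.single_apply, hij, hij.symm]
    generalize v l = a
    generalize v j = b
    revert a b
    decide
  · by_cases hj : l = j
    · subst hj
      simp [Pi.single_apply, hij, hij.symm]
      generalize v i = a
      generalize v l = b
      revert a b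
      decide
    · simp [Pi.single_apply, hi, hj]

theorem DD_pow3 (hij : i ≠ j) : DD i j ^ 3 = 1 := by rw [pow_succ', pow_two, DD_cube hij]

theorem TV_DD (hij : i ≠ j) : TV j i * DD i j * TV j i = DD i j ^ 2 := by
  have h1 : TV j i * DD i j * TV j i = TV j i * TV i j := by
    rw [DD, mul_assoc, mul_assoc, TV_sq hij.symm, mul_one]
  have h2 : DD i j * (TV j i * TV i j) = 1 := by
    rw [DD, mul_assoc, ← mul_assoc (TV j i), TV_sq hij.symm, one_mul, TV_sq hij]
  have h3 : DD i j ^ 2 * DD i j = 1 := by rw [← pow_succ, DD_pow3 hij]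
  rw [h1]
  calc TV j i * TV i j = (DD i j ^ 2 * DD i j) * (TV j i * TV i j) := by rw [h3, one_mul]
    _ = DD i j ^ 2 := by rw [mul_assoc, h2, mul_one]

theorem TV_DD_pow (hij : i ≠ j) (m : ℕ) : TV j i * DD i j ^ m * TV j i = DD i j ^ (2 * m) := by
  induction m with
  | zero => simp [TV_sq hij.symm]
  | succ m ih =>
    have h1 : TV j i * DD i j ^ (m + 1) * TV j i =
        (TV j i * DD i j ^ m * TV j i) * (TV j i * DD i j * TV j i) := by
      rw [pow_succ]
      simp only [mul_assoc]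
      rw [← mul_assoc (TV j i) (TV j i), TV_sq hij.symm, one_mul]
    rw [h1, ih, TV_DD hij, ← pow_add]
    congr 1

theorem DD_inv (hij : i ≠ j) (m : ℕ) : DD i j ^ m * DD i j ^ (2 * m) = 1 := by
  rw [← pow_add]
  have : m + 2 * m = 3 * m := by ring
  rw [this, pow_mul, DD_pow3 hij, one_pow]

theorem DD_inv' (hij : i ≠ j) (m : ℕ) : DD i j ^ (2 * m) * DD i j ^ m = 1 := by
  rw [← pow_add]
  have : 2 * m + m = 3 * m := by ring
  rw [this, pow_mul, DD_pow3 hij, one_pow]

end mat

section trick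

variable {G : Type u} [Group G] [Finite G] {k : ℕ} {V : Subgroup G}

theorem actM_pow {c : V ≃* Multiplicative (Fin k → ZMod 2)} {g : G}
    {M : Matrix (Fin k) (Fin k) (ZMod 2)} [Fact (Nat.Prime 2)] (h : ActM c g M) (n : ℕ) : ActM c (g ^ n) (M ^ n) := by
  induction n with
  | zero => rw [pow_zero, pow_zero]; exact ActM.one
  | succ n ih => rw [pow_succ, pow_succ]; exact ih.mul h

/-- the elements acting as a power of `DD` -/
def YD [Fact (Nat.Prime 2)] (c : V ≃* Multiplicative (Fin k → ZMod 2)) {i j : Fin k} (hij : i ≠ j) : Subgroup G where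
  carrier := {g | ∃ m : ℕ, ActM c g (DD i j ^ m)}
  mul_mem' := by
    rintro g g' ⟨m, h⟩ ⟨m', h'⟩
    exact ⟨m + m', by rw [pow_add]; exact h.mul h'⟩
  one_mem' := ⟨0, by rw [pow_zero]; exact ActM.one⟩
  inv_mem' := by
    rintro g ⟨m, h⟩
    exact ⟨2 * m, h.inv (DD_inv hij m)⟩

/-- an involution `y ≠ z` outside the cyclic 2-group `⟨t⟩` with involution `z` -/
theorem eq_of_mem_zpowers {t y : G} {a : ℕ} (ht : orderOf t = 2 ^ (a + 1)) (hy : y ^ 2 = 1) (hyt : y ∈ zpowers t) :
    y = 1 ∨ y = t ^ 2 ^ a := by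
  obtain ⟨m, hm⟩ := (mem_powers_iff_mem_zpowers (x := t)).2 hyt
  have hm' : t ^ m = y := hm
  rw [← hm', ← pow_mul] at hy
  have h1 := orderOf_dvd_of_pow_eq_one hy
  rw [ht, pow_succ] at h1
  have h2 : 2 ^ a ∣ m := Nat.dvd_of_mul_dvd_mul_right (by norm_num) h1
  obtain ⟨l, rfl⟩ := h2
  have h3 : (t ^ 2 ^ a) ^ 2 = 1 := by
    rw [← pow_mul, ← pow_succ, ← ht, pow_orderOf_eq_one]
  rw [← hm', pow_mul]
  rcases Nat.even_or_odd l with hl | hl
  · left
    obtain ⟨l', rfl⟩ := hl
    rw [← two_mul, pow_mul, h3, one_pow]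
  · right
    obtain ⟨l', rfl⟩ := hl
    rw [pow_succ, pow_mul, h3, one_pow, one_mul]

/-- **The t-trick.** -/
theorem t_trick (hH : Homog G) (hV : ∀ x, x ∈ V ↔ x ^ 2 = 1) (hVc : ∀ x ∈ V, ∀ y ∈ V, x * y = y * x)
    [Fact (Nat.Prime 2)]
    (c : V ≃* Multiplicative (Fin k → ZMod 2)) {i j : Fin k} (hij : i ≠ j)
    (hall : ∀ M N : Matrix (Fin k) (Fin k) (ZMod 2), M * N = 1 → ∃ g : G, ActM c g M) : False := by
  have hp3 : Fact (Nat.Prime 3) := ⟨Nat.prime_three⟩
  have hVn : ∀ g : G, ∀ x ∈ V, g * x * g⁻¹ ∈ V := by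
    intro a x hx
    rw [hV] at hx ⊢
    rw [conj_pow, hx]; group
  obtain ⟨t₀, ht₀⟩ := hall (TV j i) (TV j i) (TV_sq hij.symm)
  have hDD : DD i j * DD i j ^ 2 = 1 := by rw [← pow_succ', DD_pow3 hij]
  obtain ⟨gD, hgD⟩ := hall (DD i j) (DD i j ^ 2) hDD
  obtain ⟨T, hT⟩ := exists_isSyl 3 (YD c hij)
  have hYV : ∀ y ∈ YD c hij, ∀ x ∈ V, y * x * y⁻¹ ∈ V := fun y _ x hx => hVn y x hx
  have hab : ∀ y ∈ YD c hij, ∀ y' ∈ YD c hij, ∀ x ∈ V, y * (y' * x * y'⁻¹) * y⁻¹ = y' * (y * x * y⁻¹) * y'⁻¹ := by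
    rintro y ⟨m, h⟩ y' ⟨m', h'⟩ x hx
    have h1 := (h.mul h') ⟨x, hx⟩
    have h2 := (h'.mul h) ⟨x, hx⟩
    rw [← pow_add] at h1 h2
    rw [add_comm m' m, ← h1] at h2
    have h3 : y * (y' * x * y'⁻¹) * y⁻¹ = y * y' * x * (y * y')⁻¹ := by group
    have h4 : y' * (y * x * y⁻¹) * y'⁻¹ = y' * y * x * (y' * y)⁻¹ := by group
    rw [h3, h4]
    exact h2.symm
  have hτ : ∀ (g : G) (m : ℕ), ActM c g (DD i j ^ m) → ∃ τ ∈ T, ActM c τ (DD i j ^ m) := by
    intro g m hg
    obtain ⟨τ, hτ, hτ2⟩ := exists_act_eq (n := 1) hT hYV hab (g := g) ⟨m, hg⟩ (by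
      intro x hx
      have h1 := actM_pow hg (3 ^ 1)
      rw [pow_one, ← pow_mul, mul_comm, pow_mul, DD_pow3 hij, one_pow] at h1
      rw [pow_one]
      exact h1.centralises x hx)
    exact ⟨τ, hτ, fun x => (hτ2 x x.2).trans (hg x)⟩
  obtain ⟨δ, hδ, hδA⟩ := hτ gD 1 (by rwa [pow_one])
  rw [pow_one] at hδA
  have ht₀i : ActM c t₀⁻¹ (TV j i) := ht₀.inv (TV_sq hij.symm)
  have hY : cj t₀ T ≤ YD c hij := by
    intro x hx
    rw [mem_cj] at hx
    obtain ⟨m, h⟩ := hT.le hx
    have h1 := (ht₀.mul h).mul ht₀i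
    rw [TV_DD_pow hij] at h1
    have h2 : t₀ * (t₀⁻¹ * x * t₀) * t₀⁻¹ = x := by group
    rw [h2] at h1
    exact ⟨_, h1⟩
  obtain ⟨y, ⟨m, hy⟩, hyT⟩ := hT.exists_conj_le hY (isPGroup_cj hT.isPGroup t₀)
  obtain ⟨s, hs, hsA⟩ := hτ y m hy
  set t' : G := s * y⁻¹ * t₀ with ht'
  have ht'T : ∀ x ∈ T, t' * x * t'⁻¹ ∈ T := by
    intro x hx
    have h1 : t₀ * x * t₀⁻¹ ∈ cj t₀ T := by
      rw [mem_cj]
      have h2 : t₀⁻¹ * (t₀ * x * t₀⁻¹) * t₀ = x := by group
      rwa [h2]
    have h2 := hyT h1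
    rw [mem_cj] at h2
    have h3 : s * (y⁻¹ * (t₀ * x * t₀⁻¹) * y) * s⁻¹ = t' * x * t'⁻¹ := by rw [ht']; group
    rw [← h3]
    exact T.mul_mem (T.mul_mem hs h2) (T.inv_mem hs)
  have ht'A : ActM c t' (TV j i) := by
    have h1 := (hsA.mul (hy.inv (DD_inv hij m))).mul ht₀
    rwa [DD_inv hij, one_mul] at h1
  -- the 2-part
  obtain ⟨l, ⟨q, rfl⟩, r, hr⟩ := exists_p_part (p := 2) t' 1
  set t := t' ^ (1 + 2 ^ 1 * q) with ht
  have htA : ActM c t (TV j i) := by
    have h1 := actM_pow ht'A (1 + 2 ^ 1 * q)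
    have h2 : TV j i ^ (1 + 2 ^ 1 * q) = TV j i := by
      rw [pow_one, pow_add, pow_one, pow_mul, pow_two, TV_sq hij.symm, one_pow, mul_one]
    rwa [h2] at h1
  have htT : t ∈ normalizer (T : Set G) := pow_mem (mem_normalizer_fin ht'T) _
  clear_value t
  -- the basis vectors
  set vi : V := c.symm (Multiplicative.ofAdd (Pi.single i 1)) with hvi
  set vj : V := c.symm (Multiplicative.ofAdd (Pi.single j 1)) with hvj
  have hci : Multiplicative.toAdd (c vi) = Pi.single i 1 := by rw [hvi, MulEquiv.apply_symm_apply]; rfl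
  have hcj : Multiplicative.toAdd (c vj) = Pi.single j 1 := by rw [hvj, MulEquiv.apply_symm_apply]; rfl
  have hvj1 : vj ≠ 1 := by
    intro h
    rw [h, map_one] at hcj
    have := congrFun hcj j
    simp at this
  have htv : ∀ v : V, t * v * t⁻¹ = v ∨ t * v * t⁻¹ = v * vj := by
    intro v
    have h1 := htA v
    have h2 : mv c (TV j i) v = v ∨ mv c (TV j i) v = v * vj := by
      rcases z01 (Multiplicative.toAdd (c v) i) with h3 | h3
      · left
        apply c.injective
        apply Multiplicative.toAdd.injective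
        rw [c_mv, TV_mulVec, h3, Pi.single_zero, add_zero]
      · right
        apply c.injective
        apply Multiplicative.toAdd.injective
        rw [c_mv, TV_mulVec, h3, map_mul, toAdd_mul, hcj]
    rcases h2 with h2 | h2
    · left; rw [h1, h2]
    · right; rw [h1, h2]; rfl
  have htvi : t * vi * t⁻¹ = vi * vj := by
    have h1 := htA vi
    rw [h1]
    have h2 : mv c (TV j i) vi = vi * vj := by
      apply c.injective
      apply Multiplicative.toAdd.injective
      rw [c_mv, TV_mulVec, map_mul, toAdd_mul, hcj, hci, Pi.single_eq_same]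
    rw [h2]; rfl
  have htvj : t * vj * t⁻¹ = vj := by
    have h1 := htA vj
    rw [h1]
    have h2 : mv c (TV j i) vj = vj := by
      apply c.injective
      apply Multiplicative.toAdd.injective
      rw [c_mv, TV_mulVec, hcj, Pi.single_eq_of_ne hij, Pi.single_zero, add_zero]
    rw [h2]
  -- the involution of `⟨t⟩`
  have ht1 : t ≠ 1 := by
    intro h
    rw [h, one_mul, inv_one, mul_one] at htvi
    exact hvj1 (Subtype.ext (left_eq_mul.1 htvi))
  obtain ⟨b, hb, hb2⟩ := (Nat.dvd_prime_pow Nat.prime_two).1 (orderOf_dvd_of_pow_eq_one hr)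
  have hb0 : b ≠ 0 := by
    rintro rfl
    rw [pow_zero] at hb2
    exact ht1 (orderOf_eq_one_iff.1 hb2)
  obtain ⟨a, rfl⟩ := Nat.exists_eq_succ_of_ne_zero hb0
  set z := t ^ 2 ^ a with hz
  have hz2 : z ^ 2 = 1 := by
    rw [hz, ← pow_mul, ← pow_succ, ← Nat.succ_eq_add_one, ← hb2, pow_orderOf_eq_one]
  have hz1 : z ≠ 1 := by
    intro h
    have h1 := orderOf_dvd_of_pow_eq_one h
    rw [hb2, Nat.pow_dvd_pow_iff_le_right (by norm_num)] at h1
    omega
  have hzV : z ∈ V := (hV z).2 hz2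
  -- `z` centralises `T`
  have hzT : z ∈ normalizer (T : Set G) := pow_mem htT _
  have hδz : δ * z * δ⁻¹ = z := by
    have h1 : z * δ * z⁻¹ * δ⁻¹ ∈ T := T.mul_mem (mem_normalizer' hzT hδ) (T.inv_mem hδ)
    have h2 : z * δ * z⁻¹ * δ⁻¹ ∈ V := by
      have h3 : z * δ * z⁻¹ * δ⁻¹ = z * (δ * z⁻¹ * δ⁻¹) := by group
      rw [h3]
      exact V.mul_mem hzV (hVn δ _ (V.inv_mem hzV))
    have h3 : z * δ * z⁻¹ * δ⁻¹ = 1 := by
      obtain ⟨n, hn⟩ := hT.isPGroup ⟨_, h1⟩
      have hn' : (z * δ * z⁻¹ * δ⁻¹) ^ 3 ^ n = 1 := congrArg Subtype.val hn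
      have h5 := pow_gcd_eq_one.2 ⟨hn', (hV _).1 h2⟩
      rwa [show Nat.gcd (3 ^ n) 2 = 1 from Nat.Coprime.pow_left n (by norm_num), pow_one] at h5
    have h4 : δ * z * δ⁻¹ = (z * δ * z⁻¹ * δ⁻¹)⁻¹ * z := by group
    rw [h4, h3]; group
  -- `z = vj`
  have hzvj : z = vj := by
    by_contra hne
    have hvj2 : (vj : G) ^ 2 = 1 := (hV _).1 vj.2
    have hcomm : t * (vj : G) = vj * t := by
      have h1 : t * vj * t⁻¹ * t = vj * t := by rw [htvj]
      rwa [inv_mul_cancel_right] at h1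
    have hcz : z * (vj : G) = vj * z := (show Commute t (vj : G) from hcomm).pow_left _
    have htz : t * z = z * t := (Commute.refl t).pow_right _
    have hw2 : ((vj : G) * z) ^ 2 = 1 := by
      rw [(show Commute (vj : G) z from hcz.symm).mul_pow, hvj2, hz2, one_mul]
    have hvjo : orderOf (vj : G) = 2 := orderOf_eq_prime hvj2 (fun h => hvj1 (Subtype.ext h))
    have hw1 : (vj : G) * z ≠ 1 := by
      intro h
      apply hne
      have h1 : (vj : G) = z⁻¹ := eq_inv_of_mul_eq_one_left h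
      have h2 : z⁻¹ = z := inv_eq_of_mul_eq_one_left (by rw [← pow_two]; exact hz2)
      rw [h1, h2]
    have hwo : orderOf ((vj : G) * z) = 2 := orderOf_eq_prime hw2 hw1
    obtain ⟨e, he⟩ := SLT.exists_zpowers_equiv (hvjo.trans hwo.symm)
    have hv_nm : (vj : G) ∉ zpowers t := by
      intro h
      rcases eq_of_mem_zpowers hb2 hvj2 h with h1 | h1
      · exact hvj1 (Subtype.ext h1)
      · exact hne h1.symm
    have hw_nm : (vj : G) * z ∉ zpowers t := by
      intro h
      apply hv_nm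
      have h1 : (vj : G) = (vj : G) * z * z⁻¹ := by group
      rw [h1]
      exact (zpowers t).mul_mem h ((zpowers t).inv_mem ((zpowers t).pow_mem (mem_zpowers t) _))
    have hcomm2 : t * ((vj : G) * z) = vj * z * t := by
      rw [← mul_assoc, hcomm, mul_assoc, htz, mul_assoc]
    -- injectivity
    have hinj : ∀ {w : G} (e' : zpowers (vj : G) ≃* zpowers w), w ^ 2 = 1 → w ∉ zpowers t →
        (hc : ∀ (m : zpowers t) (n : zpowers (vj : G)), Commute ((zpowers t).subtype m)
          (((zpowers w).subtype.comp e'.toMonoidHom) n)) →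
        Function.Injective (MonoidHom.noncommCoprod (zpowers t).subtype
          ((zpowers w).subtype.comp e'.toMonoidHom) hc) := by
      intro w e' hw hwt hc
      rw [injective_iff_map_eq_one]
      rintro ⟨m, n⟩ hmn
      have h1 : (m : G) * (e' n : G) = 1 := hmn
      have h2 : (e' n : G) ∈ zpowers t := by
        rw [eq_inv_of_mul_eq_one_right h1]
        exact (zpowers t).inv_mem m.2
      have h3 : (e' n : G) = 1 := by
        obtain ⟨l, hl⟩ := (mem_powers_iff_mem_zpowers (x := w)).2 (e' n).2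
        have hl' : w ^ l = (e' n : G) := hl
        rcases Nat.even_or_odd l with hl2 | hl2
        · obtain ⟨l', rfl⟩ := hl2
          rw [← hl', ← two_mul, pow_mul, hw, one_pow]
        · exfalso
          obtain ⟨l', rfl⟩ := hl2
          rw [pow_succ, pow_mul, hw, one_pow, one_mul] at hl'
          rw [← hl'] at h2
          exact hwt h2
      have h4 : n = 1 := e'.injective (by rw [map_one]; exact Subtype.ext h3)
      rw [h3, mul_one] at h1
      exact Prod.ext (Subtype.ext h1) h4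
    have hc1 : ∀ (m : zpowers t) (n : zpowers (vj : G)), Commute ((zpowers t).subtype m)
        (((zpowers (vj : G)).subtype.comp (MulEquiv.refl _).toMonoidHom) n) := by
      rintro ⟨_, m, rfl⟩ ⟨_, n, rfl⟩
      exact ((show Commute t (vj : G) from hcomm).zpow_zpow m n)
    have hc2 : ∀ (m : zpowers t) (n : zpowers (vj : G)), Commute ((zpowers t).subtype m)
        (((zpowers ((vj : G) * z)).subtype.comp e.toMonoidHom) n) := by
      rintro ⟨_, m, rfl⟩ n
      obtain ⟨l, hl⟩ := (e n).2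
      have hl' : ((vj : G) * z) ^ l = (e n : G) := hl
      change Commute (t ^ m) (e n : G)
      rw [← hl']
      exact ((show Commute t ((vj : G) * z) from hcomm2).zpow_zpow m l)
    have hi1 := hinj (MulEquiv.refl _) hvj2 hv_nm hc1
    have hi2 := hinj e hw2 hw_nm hc2
    obtain ⟨φ, hφ⟩ := hH _ _ ((MonoidHom.ofInjective hi1).symm.trans (MonoidHom.ofInjective hi2))
    have hφq : ∀ q, φ (MonoidHom.noncommCoprod _ _ hc1 q) = MonoidHom.noncommCoprod _ _ hc2 q := by
      intro q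
      have h1 := hφ (MonoidHom.ofInjective hi1 q)
      rw [MulEquiv.trans_apply, MulEquiv.symm_apply_apply] at h1
      exact h1
    have hφt : φ t = t := by
      have h1 := hφq (⟨t, mem_zpowers t⟩, 1)
      have h2 : MonoidHom.noncommCoprod _ _ hc1 ((⟨t, mem_zpowers t⟩ : zpowers t), (1 : zpowers (vj : G))) = t := by
        rw [MonoidHom.noncommCoprod_apply, map_one, mul_one]; rfl
      have h3 : MonoidHom.noncommCoprod _ _ hc2 ((⟨t, mem_zpowers t⟩ : zpowers t), (1 : zpowers (vj : G))) = t := by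
        rw [MonoidHom.noncommCoprod_apply, map_one, mul_one]; rfl
      rwa [h2, h3] at h1
    have hφv : φ (vj : G) = vj * z := by
      have h1 := hφq (1, ⟨vj, mem_zpowers (vj : G)⟩)
      have h2 : MonoidHom.noncommCoprod _ _ hc1 ((1 : zpowers t), (⟨vj, mem_zpowers (vj : G)⟩ : zpowers (vj : G))) =
          vj := by
        rw [MonoidHom.noncommCoprod_apply, map_one, one_mul]; rfl
      have h3 : MonoidHom.noncommCoprod _ _ hc2 ((1 : zpowers t), (⟨vj, mem_zpowers (vj : G)⟩ : zpowers (vj : G))) =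
          vj * z := by
        rw [MonoidHom.noncommCoprod_apply, map_one, one_mul]
        exact he
      rwa [h2, h3] at h1
    -- `φ vj ∈ {1, vj}`
    have hφvi : φ (vi : G) ∈ V := by
      rw [hV, ← map_pow, (hV _).1 vi.2, map_one]
    have h1 := congrArg φ htvi
    rw [map_mul, map_mul, map_mul, map_inv, hφt, hφv] at h1
    rcases htv ⟨φ vi, hφvi⟩ with h2 | h2
    · rw [h1] at h2
      exact hw1 (mul_eq_left.1 h2)
    · rw [h1] at h2
      have h3 := mul_left_cancel h2
      exact hz1 (mul_eq_left.1 h3)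
  -- contradiction: `DD` moves `e_j`
  have h1 := hδA vj
  rw [← hzvj, hδz, hzvj] at h1
  have h2 : mv c (DD i j) vj = vj := (Subtype.ext h1).symm
  have h3 := congrArg (fun x => Multiplicative.toAdd (c x)) h2
  simp only [c_mv, hcj] at h3
  rw [DD, ← Matrix.mulVec_mulVec, TV_mulVec, TV_mulVec] at h3
  have h4 := congrFun h3 i
  simp [hij] at h4

end trick

end Cfsg.Agent.H486.Hg.Rad
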