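import Mathlib
import Cfsg.Agent.H486.HgRadC
import Cfsg.Agent.H868.QuadR
import Cfsg.Agent.H787.Crit

/-!
# Homogeneous finite groups: perfect subgroups centralise `O₂(G)` (helper486, for S3924)
-/

set_option autoImplicit false
set_option linter.unusedSectionVars false

namespace Cfsg.Agent.H486.Hg.Rad

open Subgroup Cfsg.Agent.H486.Hg Cfsg.Agent.H486.Sn Cfsg.Agent.Lib.Cores

universe u

variable {G : Type u} [Group G] [Finite G]

theorem z1 : ∀ a b : ZMod 2, a * b = 1 → a = 1 := by decide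

/-- a perfect subgroup centralises `V`, `p = 2` -/
theorem perfect_centralises_V_two (hH : Homog G) {V : Subgroup G} (hV : ∀ x, x ∈ V ↔ x ^ 2 = 1)
    (hVc : ∀ x ∈ V, ∀ y ∈ V, x * y = y * x) {K : Subgroup G} (hK : ⁅K, K⁆ = K) :
    ∀ g ∈ K, ∀ x ∈ V, g * x * g⁻¹ = x := by
  have hp : Fact (Nat.Prime 2) := ⟨Nat.prime_two⟩
  have hVn : ∀ g : G, ∀ x ∈ V, g * x * g⁻¹ ∈ V := by
    intro a x hx
    rw [hV] at hx ⊢
    rw [conj_pow, hx]; group
  have hVp : IsPGroup 2 V := fun x => ⟨1, Subtype.ext (by simpa using (hV x).1 x.2)⟩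
  obtain ⟨k, hk⟩ := IsPGroup.iff_card.1 hVp
  obtain ⟨c⟩ := exists_equiv (A := V) (p := 2) (k := k) (fun x y => Subtype.ext (hVc x x.2 y y.2))
    (fun x => Subtype.ext (by simpa using (hV x).1 x.2)) hk
  by_cases hk0 : k = 0
  · subst hk0
    rw [pow_zero, Subgroup.card_eq_one] at hk
    intro g _ x hx
    rw [hk, mem_bot] at hx
    rw [hx]; group
  by_cases hk1 : k = 1
  · subst hk1
    refine trivial_of_scalar c hVn (fun g => ?_) hK
    obtain ⟨M, hM⟩ := exists_actM c (hVn g)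
    refine ⟨M 0 0, ?_⟩
    have h1 : M = M 0 0 • (1 : Matrix (Fin 1) (Fin 1) (ZMod 2)) := by
      ext i j
      have hi : i = 0 := Subsingleton.elim _ _
      have hj : j = 0 := Subsingleton.elim _ _
      subst hi; subst hj
      simp
    rw [← h1]; exact hM
  by_cases hk2 : k = 2
  · subst hk2
    exact trivial_small c hVn (by norm_num) hK
  rcases dichotomy hH c hVn (by omega) (by omega) with h | h
  · exact trivial_of_scalar c hVn h hK
  · exfalso
    have h0 : 0 < k := by omega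
    have h1 : 1 < k := by omega
    refine t_trick hH hV hVc c (i := ⟨0, h0⟩) (j := ⟨1, h1⟩) (by simp) fun M N hMN => ?_
    have hdet : M.det = 1 := by
      have h1 := congrArg Matrix.det hMN
      rw [Matrix.det_mul, Matrix.det_one] at h1
      exact z1 _ _ h1
    exact h ⟨M, hdet⟩

/-- **A perfect subgroup centralises `O₂(G)`.** -/
theorem perfect_centralises_two (hH : Homog G) {K : Subgroup G} (hK : ⁅K, K⁆ = K) :
    ∀ g ∈ K, ∀ x ∈ Cfsg.pCore 2 G, g * x * g⁻¹ = x := by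
  have hp : Fact (Nat.Prime 2) := ⟨Nat.prime_two⟩
  by_cases h : Cfsg.pCore 2 G = ⊥
  · intro g _ x hx
    rw [h, mem_bot] at hx
    rw [hx]; group
  have hn : (Cfsg.pCore 2 G).Normal := Cfsg.Agent.Lib.Cores.pCore_normal 2
  have hQp : IsPGroup 2 (Cfsg.pCore 2 G) := pCore_isPGroup 2
  have hQchar : (Cfsg.pCore 2 G).Characteristic := pCore_characteristic 2
  obtain ⟨V, hV, hVQ, hVc⟩ := exists_V hH h
  have hVc' : ∀ x ∈ V, ∀ y ∈ V, x * y = y * x := fun x hx y hy => hVc x hx y (hVQ hy)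
  have hKV := perfect_centralises_V_two hH hV hVc' hK
  set Q := Cfsg.pCore 2 G with hQ
  have hφQ : ∀ (ψ : MulAut G) (y : G), y ∈ Q → ψ y ∈ Q := by
    intro ψ y hy
    have h3 := Subgroup.characteristic_iff_map_eq.1 hQchar ψ
    rw [← h3]
    exact ⟨y, hy, rfl⟩
  have hφV : ∀ (ψ : MulAut G) (y : G), y ∈ V → ψ y ∈ V := by
    intro ψ y hy
    rw [hV] at hy ⊢
    rw [← map_pow, hy, map_one]
  -- it is enough to centralise the elements of order 4
  suffices h4 : ∀ g ∈ K, Nat.Coprime (orderOf g) 2 → ∀ x ∈ Q, x ^ 4 = 1 → g * x * g⁻¹ = x by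
    refine centralises_of_coprime hK 2 fun g hg hgo => ?_
    obtain ⟨H, -, hH4, -, hHa⟩ := Cfsg.Agent.H787.exists_omega_critical_two hQp
    have h5 : orderOf (MulAut.conjNormal g : MulAut Q) ∣ orderOf g := orderOf_map_dvd _ g
    have h6 := hHa (MulAut.conjNormal g) (Nat.Coprime.coprime_dvd_left h5 hgo) (fun x hx => by
      apply Subtype.ext
      rw [MulAut.conjNormal_apply]
      exact h4 g hg hgo x x.2 (by simpa using congrArg Subtype.val (hH4 x hx)))
    intro x hx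
    have h7 := congrArg Subtype.val (DFunLike.congr_fun h6 (⟨x, hx⟩ : Q))
    rw [MulAut.conjNormal_apply] at h7
    exact h7
  by_cases hQ4 : ∀ x ∈ Q, x ^ 4 = 1 → x ∈ V
  · intro g hg _ x hx hx4
    exact hKV g hg x (hQ4 x hx hx4)
  push Not at hQ4
  obtain ⟨x₀, hx₀Q, hx₀4, hx₀V⟩ := hQ4
  have hVn : V.Normal := ⟨fun x hx g => by
    rw [hV] at hx ⊢
    rw [conj_pow, hx]; group⟩
  -- the preimage of `Ω₁(Z(Q/V))`
  let π : G →* G ⧸ V := QuotientGroup.mk' V
  have hπ1 : ∀ x, π x = 1 ↔ x ∈ V := fun x => QuotientGroup.eq_one_iff x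
  let R : Subgroup G :=
    { carrier := {x | x ∈ Q ∧ π x ^ 2 = 1 ∧ ∀ y ∈ Q, π x * π y = π y * π x}
      mul_mem' := by
        rintro a b ⟨ha, ha2, hac⟩ ⟨hb, hb2, hbc⟩
        refine ⟨Q.mul_mem ha hb, ?_, fun y hy => ?_⟩
        · have h1 : Commute (π a) (π b) := hac b hb
          rw [map_mul, h1.mul_pow, ha2, hb2, one_mul]
        · rw [map_mul, mul_assoc, hbc y hy, ← mul_assoc, hac y hy, mul_assoc]
      one_mem' := ⟨Q.one_mem, by rw [map_one, one_pow], fun y _ => by rw [map_one, one_mul, mul_one]⟩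
      inv_mem' := by
        rintro a ⟨ha, ha2, hac⟩
        refine ⟨Q.inv_mem ha, by rw [map_inv, inv_pow, ha2, inv_one], fun y hy => ?_⟩
        rw [map_inv]
        exact (show Commute (π a) (π y) from hac y hy).inv_left }
  have hRmem : ∀ x, x ∈ R ↔ x ∈ Q ∧ π x ^ 2 = 1 ∧ ∀ y ∈ Q, π x * π y = π y * π x := fun _ => Iff.rfl
  have hRV : ∀ x ∈ R, x ^ 2 ∈ V := by
    intro x hx
    rw [← hπ1, map_pow]
    exact hx.2.1
  -- an element of order 4
  obtain ⟨x₁, hx₁R, hx₁V⟩ : ∃ x ∈ R, x ∉ V := by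
    set Qb : Subgroup (G ⧸ V) := Q.map π with hQb
    have hQbp : IsPGroup 2 Qb := hQp.map π
    have hne : Qb ≠ ⊥ := by
      intro h0
      have h1 : π x₀ ∈ Qb := ⟨x₀, hx₀Q, rfl⟩
      rw [h0, mem_bot, hπ1] at h1
      exact hx₀V h1
    have : Nontrivial Qb := (Subgroup.nontrivial_iff_ne_bot Qb).2 hne
    have h1 := hQbp.center_nontrivial
    have h2 : 2 ∣ Nat.card (center Qb) := by
      rcases (hQbp.to_subgroup (center Qb)).card_eq_or_dvd with h2 | h2
      · exact absurd h2 (Finite.one_lt_card (α := center Qb)).ne'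
      · exact h2
    obtain ⟨z, hz⟩ := exists_prime_orderOf_dvd_card' (G := center Qb) 2 h2
    obtain ⟨x₁, hx₁, hx₁z⟩ := (z : Qb).2
    refine ⟨x₁, ⟨hx₁, ?_, fun y hy => ?_⟩, ?_⟩
    · rw [hx₁z, ← Subgroup.coe_pow, ← Subgroup.coe_pow]
      have h3 : z ^ 2 = 1 := by rw [← hz, pow_orderOf_eq_one]
      rw [h3]; rfl
    · rw [hx₁z]
      have h4 := (Subgroup.mem_center_iff.1 z.2) ⟨π y, ⟨y, hy, rfl⟩⟩
      exact (congrArg Subtype.val h4).symm
    · intro h3
      rw [← hπ1, hx₁z] at h3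
      have h4 : z = 1 := Subtype.ext (Subtype.ext h3)
      rw [h4, orderOf_one] at hz
      exact absurd hz (by norm_num)
  have hRinv : ∀ (φ : MulAut G), ∀ x ∈ R, φ x ∈ R := by
    rintro φ x ⟨hxQ, hx2, hxc⟩
    refine ⟨hφQ φ x hxQ, ?_, fun y hy => ?_⟩
    · rw [← map_pow, hπ1] at hx2 ⊢
      rw [← map_pow]
      exact hφV φ _ hx2
    · have h1 := hxc (φ⁻¹ y) (hφQ φ⁻¹ y hy)
      rw [← map_mul, ← map_mul] at h1 ⊢
      have h2 : (x * φ⁻¹ y)⁻¹ * (φ⁻¹ y * x) ∈ V := QuotientGroup.eq.1 h1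
      have h3 := hφV φ _ h2
      rw [map_mul, map_inv, map_mul, map_mul, MulAut.apply_inv_self] at h3
      exact QuotientGroup.eq.2 h3
  have h2not : ∀ x, x ^ 4 = 1 → x ∉ V → orderOf x = 4 := by
    intro x hx hxV
    have h1 : orderOf x ∣ 2 ^ 2 := orderOf_dvd_of_pow_eq_one (by norm_num; exact hx)
    obtain ⟨m, hm, hm2⟩ := (Nat.dvd_prime_pow Nat.prime_two).1 h1
    interval_cases m
    · have hx1 : x = 1 := orderOf_eq_one_iff.1 (by simpa using hm2)
      exact absurd ((hV x).2 (by rw [hx1, one_pow])) hxV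
    · exact absurd ((hV x).2 (by rw [← pow_one 2, ← hm2, pow_orderOf_eq_one])) hxV
    · rw [hm2]; norm_num
  have hVR : V ≤ R := fun x hx => ⟨hVQ hx, by rw [(hπ1 x).2 hx, one_pow], fun y _ => by
    rw [(hπ1 x).2 hx, one_mul, mul_one]⟩
  have hR4 : ∀ x ∈ R, x ^ 4 = 1 := by
    intro x hx
    have h1 := (hV _).1 (hRV x hx)
    rw [← pow_mul] at h1
    exact h1
  have hR : ∀ x, x ^ 4 = 1 → x ∈ R := by
    intro x hx
    by_cases hxV : x ∈ V
    · exact hVR hxV
    · obtain ⟨φ, hφ⟩ := SLT.exists_aut_of_orderOf hH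
        ((h2not x₁ (hR4 x₁ hx₁R) hx₁V).trans (h2not x hx hxV).symm)
      rw [← hφ]
      exact hRinv φ x₁ hx₁R
  have hRn : R.Normal := ⟨fun x hx g => hRinv (MulAut.conj g) x hx⟩
  -- the group of automorphisms of `R` induced by `K`
  have key := Cfsg.Agent.H868.Quad.quad (R := R) (fun x y hx => by
      have h1 : (x : G) ∈ V := (hV _).2 (congrArg Subtype.val hx)
      exact Subtype.ext (hVc _ h1 _ y.2.1))
    (fun x => by
      apply Subtype.ext
      have h1 := hR4 x x.2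
      change ((x : G) ^ 2) ^ 2 = 1
      rw [← pow_mul]; exact h1)
    (fun v w hv hw hv2 hw2 => by
      have h1 : orderOf (v : G) = 2 := orderOf_eq_prime (congrArg Subtype.val hv2) (fun h => hv (Subtype.ext h))
      have h2 : orderOf (w : G) = 2 := orderOf_eq_prime (congrArg Subtype.val hw2) (fun h => hw (Subtype.ext h))
      obtain ⟨φ, hφ⟩ := SLT.exists_aut_of_orderOf hH (h1.trans h2.symm)
      exact ⟨restr φ R (hRinv φ), Subtype.ext hφ⟩)
    (K.map (MulAut.conjNormal : G →* MulAut R)) (Cfsg.Agent.Schreier.Basic.map_perfect _ hK) (by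
      rintro _ ⟨g, hg, rfl⟩ v hv
      apply Subtype.ext
      rw [MulAut.conjNormal_apply]
      exact hKV g hg v ((hV _).2 (congrArg Subtype.val hv)))
  intro g hg hgo x hx hx4
  have h1 := key (MulAut.conjNormal g) ⟨g, hg, rfl⟩ ⟨x, hR x hx4⟩
  have h2 := congrArg Subtype.val h1
  change (x⁻¹ * ((MulAut.conjNormal g : MulAut R) ⟨x, hR x hx4⟩ : R)) ^ 2 = 1 at h2
  rw [MulAut.conjNormal_apply] at h2
  set v := x⁻¹ * (g * x * g⁻¹) with hv
  have hvV : v ∈ V := (hV _).2 h2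
  have hgv : g * v * g⁻¹ = v := hKV g hg v hvV
  have hgx : g * x * g⁻¹ = x * v := by rw [hv]; group
  have hpow : ∀ m : ℕ, g ^ m * x * (g ^ m)⁻¹ = x * v ^ m := by
    intro m
    induction m with
    | zero => simp
    | succ m ih =>
      have h3 : g ^ (m + 1) * x * (g ^ (m + 1))⁻¹ = g * (g ^ m * x * (g ^ m)⁻¹) * g⁻¹ := by rw [pow_succ']; group
      have h4 : g * (x * v ^ m) * g⁻¹ = (g * x * g⁻¹) * (g * v * g⁻¹) ^ m := by rw [conj_pow]; group
      rw [h3, ih, h4, hgx, hgv, pow_succ', mul_assoc]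
  have h3 := hpow (orderOf g)
  rw [pow_orderOf_eq_one, one_mul, inv_one, mul_one] at h3
  have h4 : v ^ orderOf g = 1 := left_eq_mul.1 h3
  have h5 := pow_gcd_eq_one.2 ⟨h4, h2⟩
  rw [hgo, pow_one] at h5
  rw [hgx, h5, mul_one]

end Cfsg.Agent.H486.Hg.Rad
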