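import Mathlib
import Cfsg.Agent.H486.HgRadB
import Cfsg.Agent.H486.HgRadD
import Cfsg.Agent.SignalizersComponents.ComponentExists

/-!
# Homogeneous finite groups without components are solvable (helper486, for S3924)

* `Rad.homog_of_char` : characteristic subgroups of homogeneous groups are homogeneous;
* `Rad.isSolvable_of_layer_eq_bot` : a finite homogeneous group without components is solvable.
-/

set_option autoImplicit false

namespace Cfsg.Agent.H486.Hg.Rad

open Subgroup Cfsg.Agent.H486.Hg Cfsg.Agent.Lib.Cores

universe u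

variable {G : Type u} [Group G]

theorem homog_of_char [Finite G] (hH : Homog G) (N : Subgroup G) [hN : N.Characteristic] : Homog N := by
  intro A B e
  have hinj : Function.Injective N.subtype := N.subtype_injective
  set eA := A.equivMapOfInjective N.subtype hinj with heA
  set eB := B.equivMapOfInjective N.subtype hinj with heB
  obtain ⟨φ, hφ⟩ := hH (A.map N.subtype) (B.map N.subtype) ((eA.symm.trans e).trans eB)
  have hφN : ∀ x ∈ N, φ x ∈ N := fun x hx => by
    have h1 := Subgroup.characteristic_iff_map_eq.1 hN φ
    rw [← h1]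
    exact ⟨x, hx, rfl⟩
  refine ⟨restr φ N hφN, fun a => ?_⟩
  apply Subtype.ext
  rw [restr_apply]
  have h1 := hφ (eA a)
  have h2 : ((eA a : A.map N.subtype) : G) = ((a : N) : G) := rfl
  rw [h2] at h1
  rw [h1]
  simp only [MulEquiv.trans_apply, MulEquiv.symm_apply_apply]
  rfl

theorem isSolvable_of_layer_eq_bot [Finite G] (hH : Homog G) (hl : Cfsg.layer G = ⊥) :
    Group.IsSolvable G := by
  have h1 : Group.IsSolvable (⊤ : Subgroup G) := by
    refine Cfsg.Agent.Schreier.Basic.isSolvable_of_perfect_eq_bot ⊤ (fun D _ hD => ?_)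
    have h2 : Cfsg.fittingSubgroup G ≤ centralizer (D : Set G) := by
      rw [fittingSubgroup_eq_iSup_pCore]
      refine iSup_le fun p x hx => ?_
      rw [mem_centralizer_iff]
      intro g hg
      have hp : Fact (p : ℕ).Prime := ⟨p.2⟩
      have h3 : g * x * g⁻¹ = x := by
        by_cases hp2 : (p : ℕ) = 2
        · rw [hp2] at hx
          exact perfect_centralises_two hH hD g hg x hx
        · exact perfect_centralises_odd hp2 hH hD g hg x hx
      rw [mul_inv_eq_iff_eq_mul] at h3
      exact h3
    have h3 : D ≤ Cfsg.fittingSubgroup G :=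
      (le_centralizer_iff.1 h2).trans
        (Cfsg.Agent.SignalizersComponents.ComponentExists.centralizer_fitting_le_of_layer_eq_bot hl)
    have h4 : ⁅D, D⁆ = ⊥ := by
      rw [commutator_eq_bot_iff_le_centralizer]
      exact h3.trans h2
    rw [← hD, h4]
  exact Group.isSolvable_of_surjective (f := (Subgroup.topEquiv : (⊤ : Subgroup G) ≃* G).toMonoidHom)
    (Subgroup.topEquiv : (⊤ : Subgroup G) ≃* G).surjective

end Cfsg.Agent.H486.Hg.Rad
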