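import Mathlib

/-!
# Arithmetic for the rows `2 f (Q - 1) X ≤ Q ^ d`, `Q = p ^ f`
-/

set_option autoImplicit false

namespace Cfsg.Agent.H486.Kgv

theorem le_pow_sub_one {r f : ℕ} (hr : 2 ≤ r) (hf : 1 ≤ f) : f ≤ r ^ (f - 1) := by
  obtain ⟨g, rfl⟩ : ∃ g, f = g + 1 := ⟨f - 1, by omega⟩
  rw [Nat.add_sub_cancel]
  exact Nat.lt_pow_self (by omega)

/-- the inequality for the smallest prime suffices -/
theorem base_le {r p f d X : ℕ} (hr : 2 ≤ r) (hp : r ≤ p) (hf : 1 ≤ f) (hd : 3 ≤ d)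
    (h : 2 * (r - 1) * X ≤ r ^ d) : 2 * f * (p ^ f - 1) * X ≤ (p ^ f) ^ d := by
  rcases hf.eq_or_lt with rfl | hf2
  · rw [pow_one, mul_one]
    have h1 : (p - 1) * r ^ 2 ≤ (r - 1) * p ^ 2 := by
      obtain ⟨s, rfl⟩ : ∃ s, r = s + 2 := ⟨r - 2, by omega⟩
      obtain ⟨t, rfl⟩ : ∃ t, p = s + 2 + t := ⟨p - (s + 2), by omega⟩
      have e1 : s + 2 + t - 1 = s + 1 + t := by omega
      have e2 : s + 2 - 1 = s + 1 := by omega
      rw [e1, e2]
      nlinarith [Nat.zero_le (s * t), Nat.zero_le (s ^ 2 * t), Nat.zero_le (s * t ^ 2)]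
    have h2 : r ^ (d - 2) ≤ p ^ (d - 2) := Nat.pow_le_pow_left hp _
    have h3 : (p - 1) * r ^ d ≤ (r - 1) * p ^ d := by
      have e : d = 2 + (d - 2) := by omega
      rw [e, pow_add, pow_add, ← mul_assoc, ← mul_assoc]
      exact Nat.mul_le_mul h1 (by simpa using h2)
    refine Nat.le_of_mul_le_mul_left (c := r - 1) ?_ (by omega)
    calc (r - 1) * (2 * (p - 1) * X) = (p - 1) * (2 * (r - 1) * X) := by ring
      _ ≤ (p - 1) * r ^ d := Nat.mul_le_mul_left _ h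
      _ ≤ _ := h3
  · have h1 : 2 * X ≤ r ^ d := by
      refine le_trans ?_ h
      have : 2 * 1 * X ≤ 2 * (r - 1) * X := Nat.mul_le_mul_right X (Nat.mul_le_mul_left 2 (by omega))
      simpa using this
    have h2 : f * r ^ d ≤ (p ^ f) ^ (d - 1) := by
      calc f * r ^ d ≤ r ^ (f - 1) * r ^ d := Nat.mul_le_mul_right _ (le_pow_sub_one hr hf)
        _ = r ^ (f - 1 + d) := by rw [pow_add]
        _ ≤ r ^ (f * (d - 1)) := by
            apply Nat.pow_le_pow_right (by omega)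
            obtain ⟨g, rfl⟩ : ∃ g, f = g + 2 := ⟨f - 2, by omega⟩
            obtain ⟨e, rfl⟩ : ∃ e, d = e + 3 := ⟨d - 3, by omega⟩
            have e1 : e + 3 - 1 = e + 2 := by omega
            have e2 : g + 2 - 1 = g + 1 := by omega
            rw [e1, e2]
            nlinarith [Nat.zero_le (g * e)]
        _ ≤ p ^ (f * (d - 1)) := Nat.pow_le_pow_left hp _
        _ = _ := by rw [pow_mul]
    calc 2 * f * (p ^ f - 1) * X ≤ 2 * f * (p ^ f) * X :=
          Nat.mul_le_mul_right X (Nat.mul_le_mul_left _ (Nat.sub_le _ _))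
      _ = p ^ f * (f * (2 * X)) := by ring
      _ ≤ p ^ f * (f * r ^ d) := Nat.mul_le_mul_left _ (Nat.mul_le_mul_left _ h1)
      _ ≤ p ^ f * (p ^ f) ^ (d - 1) := Nat.mul_le_mul_left _ h2
      _ = (p ^ f) ^ d := by
          rw [← pow_succ']
          congr 1
          omega

/-- extension fields -/
theorem ext_le {p f d X : ℕ} (hp : 2 ≤ p) (hf : 2 ≤ f) (hd : 3 ≤ d)
    (h : 4 * X ≤ p ^ (2 * (d - 1))) : 2 * f * (p ^ f - 1) * X ≤ (p ^ f) ^ d := by
  have h0 : f ≤ 2 * p ^ (f - 2) := by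
    obtain ⟨g, rfl⟩ : ∃ g, f = g + 2 := ⟨f - 2, by omega⟩
    rw [Nat.add_sub_cancel]
    have : g < p ^ g := Nat.lt_pow_self (by omega)
    omega
  have h2 : 2 * f * X ≤ (p ^ f) ^ (d - 1) := by
    calc 2 * f * X ≤ 2 * (2 * p ^ (f - 2)) * X := Nat.mul_le_mul_right X (Nat.mul_le_mul_left 2 h0)
      _ = p ^ (f - 2) * (4 * X) := by ring
      _ ≤ p ^ (f - 2) * p ^ (2 * (d - 1)) := Nat.mul_le_mul_left _ h
      _ = p ^ (f - 2 + 2 * (d - 1)) := by rw [pow_add]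
      _ ≤ p ^ (f * (d - 1)) := by
          apply Nat.pow_le_pow_right (by omega)
          obtain ⟨g, rfl⟩ : ∃ g, f = g + 2 := ⟨f - 2, by omega⟩
          obtain ⟨e, rfl⟩ : ∃ e, d = e + 3 := ⟨d - 3, by omega⟩
          have e1 : e + 3 - 1 = e + 2 := by omega
          rw [e1, Nat.add_sub_cancel]
          nlinarith [Nat.zero_le (g * e)]
      _ = _ := by rw [pow_mul]
  calc 2 * f * (p ^ f - 1) * X ≤ 2 * f * (p ^ f) * X :=
        Nat.mul_le_mul_right X (Nat.mul_le_mul_left _ (Nat.sub_le _ _))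
    _ = p ^ f * (2 * f * X) := by ring
    _ ≤ p ^ f * (p ^ f) ^ (d - 1) := Nat.mul_le_mul_left _ h2
    _ = (p ^ f) ^ d := by
        rw [← pow_succ']
        congr 1
        omega

theorem cube_le {d : ℕ} (hd : 5 ≤ d) : 8 * (d * d ^ 2 + 5 * d ^ 2) ≤ 5 ^ d := by
  induction d, hd using Nat.le_induction with
  | base => norm_num
  | succ d hd ih =>
    rw [pow_succ 5 d]
    nlinarith

theorem four_le {d : ℕ} (hd : 7 ≤ d) : 4 * ((2 * d ^ 2) * (2 * d ^ 2 + 4)) ≤ 5 ^ d := by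
  induction d, hd using Nat.le_induction with
  | base => norm_num
  | succ d hd ih =>
    rw [pow_succ 5 d]
    have h1 : (d + 1) ^ 2 ≤ 2 * d ^ 2 := by nlinarith
    have h2 : 4 * ((2 * (d + 1) ^ 2) * (2 * (d + 1) ^ 2 + 4)) ≤ 5 * (4 * ((2 * d ^ 2) * (2 * d ^ 2 + 4))) := by
      have h3 : 3 * (d + 1) ^ 2 ≤ 4 * d ^ 2 + 3 := by nlinarith
      have h4 : 0 ≤ d ^ 2 := Nat.zero_le _
      nlinarith
    omega

end Cfsg.Agent.H486.Kgv
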