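import Cfsg.Agent.H123.SporSimple
import Cfsg.Agent.H348.PPD.RowM22
import Cfsg.Agent.H537.CopSC
import Cfsg.Agent.H609.TH.Link
import Cfsg.Agent.OrdDiv.Table
import Cfsg.Agent.S1606

/-!
# S3938, the row of `M₂₂` (helper486)

An element of order 11 of `M₂₂` is contained in only one maximal subgroup `L₂(11)`: the candidates are `L₂(11)` and `M₁₁`;
`M₁₁` has index 56 (excluded by S1606), and `|C(5)| = 5`.
-/

set_option autoImplicit false
set_option maxRecDepth 100000

namespace Cfsg.Agent.H486.SprM22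

open Subgroup Cfsg Cfsg.Agent.OrdDiv Cfsg.Agent.H257.El Cfsg.Agent.H424.Spr Cfsg.Agent.H609.TH Cfsg.Agent.H537.Cop

theorem card_T {T : Type*} [Group T] (h : Spor.IsoM22 T) : Nat.card T = 443520 := NotCT.Orders.m22 h

theorem sc_five {T : Type*} [Group T] (h : Spor.IsoM22 T) : SC 5 T := by
  obtain ⟨e⟩ := h
  have hc : Nat.card Spor.M22 = 443520 := card_T ⟨MulEquiv.refl _⟩
  have hf : Finite Spor.M22 := Nat.finite_of_card_ne_zero (by rw [hc]; norm_num)
  obtain ⟨x, hx, hcx⟩ := H348.PPD.RowM22.cent5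
  exact (SC.of_one (by norm_num) (by rw [hc]; norm_num) hx hcx).congr e

/-- no subgroup of index 56 -/
theorem no_m11 {T : Type*} [Group T] (h : Spor.IsoM22 T) (N : Subgroup T) : Nat.card N ≠ 7920 := by
  intro hN
  have hT := card_T h
  obtain ⟨e⟩ := h
  have h3 := (S1606.result none (some 0) (by simp)
    (N.map (e.trans SporadicA.MathieuRecog.M22_mulEquiv).toMonoidHom)).1
  apply h3
  have h4 : (N.map (e.trans SporadicA.MathieuRecog.M22_mulEquiv).toMonoidHom).index = N.index :=
    Subgroup.index_map_of_bijective (e.trans SporadicA.MathieuRecog.M22_mulEquiv).bijective _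
  rw [h4]
  have h5 := N.card_mul_index
  rw [hN, hT] at h5
  omega

theorem surv_m22 : surv 443520 [(2, 7), (3, 2), (5, 1), (7, 1), (11, 1)] 11 [] = [Grp.psl 2 11, Grp.m11] := by
  decide +kernel

theorem chk_m22 : chkN 443520 [(2, 7), (3, 2), (5, 1), (7, 1), (11, 1)] 11 = true := by decide +kernel

theorem ok_m22 : okAll [(2, 7), (3, 2), (5, 1), (7, 1), (11, 1)] 11 = true := by decide +kernel

/-- **S3938, the row of `M₂₂`.** -/
theorem spr_m22 (known : Cfsg.Agent.H257.El.Known.{0}) {T : Type} [Group T] [Finite T] (h : Spor.IsoM22 T) :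
    Cfsg.Agent.H424.Spr.Spr T := by
  classical
  have hn := card_T h
  have hsim : IsSimpleGroup T := H123.SporSimple.spor_simple (by
    unfold IsSporadicGroup
    tauto)
  obtain ⟨hv, hr3, hrn, h2, hne⟩ := of_chkN chk_m22
  have hr : Nat.Prime 11 := by norm_num
  have hsc : SC 11 T := m22_11 h
  have hfree : Free 11 T := free_of_sc hn hv hr hsc ok_m22
  have hna : ∃ x y : T, x * y ≠ y * x := exists_not_comm hn (by norm_num)
  obtain ⟨s, hs⟩ := exists_of_order (T := T) hr (by rw [hn]; exact hrn)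
  refine spr_of_uniq hna (uniq_of_unique table known hn hv hr h2 hne hfree hs fun K N K' N' hK hK' hN hN' => ?_)
  have hL : ∀ {K N : Subgroup T}, IsTop T 443520 [(2, 7), (3, 2), (5, 1), (7, 1), (11, 1)] 11 s K N → IsLTwo 11 s N := by
    intro K N hN
    obtain ⟨g, hg, hgr, hgc⟩ := hN.real
    rw [surv_m22, List.mem_cons, List.mem_singleton] at hg
    rcases hg with rfl | rfl
    · exact ⟨hN.mem, hgr⟩
    · exact absurd (hgc.trans (by decide +kernel)) (no_m11 h N)
  by_contra hne'
  rcases ltwo_count hr hr3 (by rwa [hn]) hsc hs (NN := {N, N'}) (fun X hX => by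
    rcases Finset.mem_insert.1 hX with rfl | hX
    · exact hL hN
    · rw [Finset.mem_singleton.1 hX]
      exact hL hN') with h3 | ⟨a, t, ha, -, ht, h3⟩
  · exact absurd h3 (Finset.insert_ne_empty _ _)
  · rw [Finset.card_pair hne', sc_five h a ha] at h3
    omega

end Cfsg.Agent.H486.SprM22
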