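import Cfsg.Agent.H516.TwoFrame
import Cfsg.Agent.UGT.EndJ1.Data
import Cfsg.Agent.OddHalf.D4.Spor.J1Out

/-!
# S4094 at the prime 2: the row of the Janko group `J₁`
-/

set_option autoImplicit false

namespace Cfsg.Agent.H486.TwoJ1

open Subgroup Cfsg
open Cfsg.Agent.H472.ComRed
open Cfsg.Agent.H516.Zip
open Cfsg.Agent.H516.Two
open Cfsg.Agent.UGT.EndJ1.Abs

universe u

/-- an element of the centralizer of an involution which is central modulo a normal 2-subgroup squares to 1 -/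
def Key (K : Type*) [Group K] : Prop :=
  ∀ z x : K, z * z = 1 → z ≠ 1 → x * z = z * x → ∀ Q : Subgroup K, IsPGroup 2 Q →
    (∀ c q : K, c * z = z * c → q ∈ Q → c * q * c⁻¹ ∈ Q) →
    (∀ d : K, d * z = z * d → x⁻¹ * d⁻¹ * x * d ∈ Q) → x * x = 1

theorem Key.congr {K H : Type*} [Group K] [Group H] (e : K ≃* H) (h : Key H) : Key K := by
  intro z x hz hz1 hxz Q hQ hQn hx
  have h1 := h (e z) (e x) (by rw [← map_mul, hz, map_one]) (fun h2 => hz1 (by
      rw [← e.map_one] at h2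
      exact e.injective h2)) (by rw [← map_mul, hxz, map_mul]) (Q.map e.toMonoidHom) (hQ.map _) ?_ ?_
  · rw [← map_mul, ← e.map_one] at h1
    exact e.injective h1
  · rintro c _ hc ⟨q, hq, rfl⟩
    refine ⟨e.symm c * q * (e.symm c)⁻¹, hQn _ _ ?_ hq, ?_⟩
    · apply e.injective
      rw [map_mul, map_mul, e.apply_symm_apply, hc]
    · show e (e.symm c * q * (e.symm c)⁻¹) = c * e q * c⁻¹
      rw [map_mul, map_mul, map_inv, e.apply_symm_apply]
  · intro d hd
    refine ⟨x⁻¹ * (e.symm d)⁻¹ * x * e.symm d, hx _ ?_, ?_⟩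
    · apply e.injective
      rw [map_mul, map_mul, e.apply_symm_apply, hd]
    · show e (x⁻¹ * (e.symm d)⁻¹ * x * e.symm d) = _
      rw [map_mul, map_mul, map_mul, map_inv, map_inv, e.apply_symm_apply]

theorem key_of_dat {K : Type*} [Group K] (D : Dat K) : Key K := by
  have h2 : Fact (Nat.Prime 2) := ⟨Nat.prime_two⟩
  have hfin := D.fin
  intro z x hz hz1 hxz Q hQ hQn hx
  -- conjugation to `z = t`
  obtain ⟨g, hg⟩ := D.conj_t hz hz1
  set y := g⁻¹ * x * g with hy
  suffices h : y * y = 1 by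
    have e1 : x * x = g * (y * y) * g⁻¹ := by rw [hy]; group
    rw [e1, h]; group
  have hyt : y * D.t = D.t * y := by
    have e1 : y * D.t = g⁻¹ * (x * z) * g := by rw [hy, ← hg]; group
    have e2 : D.t * y = g⁻¹ * (z * x) * g := by rw [hy, ← hg]; group
    rw [e1, e2, hxz]
  set C := centralizer ({D.t} : Set K) with hC
  let P : Subgroup C := (Q.map (MulAut.conj g⁻¹).toMonoidHom).subgroupOf C
  have hPmem : ∀ w : C, w ∈ P ↔ g * (w : K) * g⁻¹ ∈ Q := by
    intro w
    rw [mem_subgroupOf]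
    constructor
    · rintro ⟨q, hq, hqw⟩
      have h1 : g⁻¹ * q * g⁻¹⁻¹ = w := hqw
      rw [← h1]
      have e1 : g * (g⁻¹ * q * g⁻¹⁻¹) * g⁻¹ = q := by group
      rwa [e1]
    · intro hw
      refine ⟨_, hw, ?_⟩
      show g⁻¹ * (g * (w : K) * g⁻¹) * g⁻¹⁻¹ = w
      group
  have hgC : ∀ w : C, g * (w : K) * g⁻¹ * z = z * (g * (w : K) * g⁻¹) := by
    intro w
    have h1 : (w : K) * D.t = D.t * w := mem_centralizer_singleton_iff.1 w.2
    have e1 : g * (w : K) * g⁻¹ * z = g * (w * D.t) * g⁻¹ := by rw [← hg]; group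
    have e2 : z * (g * (w : K) * g⁻¹) = g * (D.t * w) * g⁻¹ := by rw [← hg]; group
    rw [e1, e2, h1]
  have hPn : P.Normal := by
    refine ⟨fun n hn w => ?_⟩
    rw [hPmem] at hn ⊢
    have h1 := hQn _ _ (hgC w) hn
    have e1 : g * (w : K) * g⁻¹ * (g * (n : K) * g⁻¹) * (g * (w : K) * g⁻¹)⁻¹ =
      g * ((w * n * w⁻¹ : C) : K) * g⁻¹ := by
      push_cast
      group
    rwa [e1] at h1
  have hPp : IsPGroup 2 P := (hQ.map _).comap_of_injective _ C.subtype_injective
  let y' : C := ⟨y, mem_centralizer_singleton_iff.2 hyt⟩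
  let M : Subgroup C := (center (C ⧸ P)).comap (QuotientGroup.mk' P)
  have hMn : M.Normal := inferInstance
  have hyM : y' ∈ M := by
    rw [mem_comap, mem_center_iff]
    intro w
    obtain ⟨w, rfl⟩ := QuotientGroup.mk'_surjective P w
    rw [← map_mul, ← map_mul]
    apply QuotientGroup.eq.2
    rw [hPmem]
    have h1 := hx _ (hgC w)
    have e1 : g * (((w * y')⁻¹ * (y' * w) : C) : K) * g⁻¹ =
        x⁻¹ * (g * (w : K) * g⁻¹)⁻¹ * x * (g * (w : K) * g⁻¹) := by
      have e2 : ((y' : C) : K) = g⁻¹ * x * g := rfl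
      push_cast
      rw [e2]
      group
    rw [e1]
    exact h1
  -- elements of `M` of odd order `r` are not there
  let b' : C := ⟨D.b, Dat.mem_cen.2 D.bt⟩
  let c' : C := ⟨D.c, Dat.mem_cen.2 D.ct⟩
  let g' : C := ⟨D.g, Dat.mem_cen.2 D.gt⟩
  let k' : C := ⟨D.k, Dat.mem_cen.2 D.kt⟩
  have hcen : ∀ m : C, m ∈ M → ∀ w : C, QuotientGroup.mk' P (w * m * w⁻¹) = QuotientGroup.mk' P m := by
    intro m hm w
    have h1 := mem_center_iff.1 (mem_comap.1 hm) (QuotientGroup.mk' P w)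
    rw [map_mul, map_mul, map_inv, h1, mul_inv_cancel_right]
  have hodd : ∀ (m : C) (r : ℕ), Odd r → m ^ r = 1 → QuotientGroup.mk' P m = 1 → m = 1 := by
    intro m r hr hmr hm
    have h1 : m ∈ P := (QuotientGroup.eq_one_iff m).1 hm
    obtain ⟨k, hk⟩ := hPp ⟨m, h1⟩
    have h3 : m ^ 2 ^ k = 1 := congrArg Subtype.val hk
    have h4 : orderOf m ∣ r := orderOf_dvd_of_pow_eq_one hmr
    have h5 : Nat.Coprime r (2 ^ k) := (Nat.Coprime.pow_left k (Nat.coprime_two_left.2 hr)).symm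
    have h6 := Nat.Coprime.eq_one_of_dvd (Nat.Coprime.coprime_dvd_left h4 h5) (orderOf_dvd_of_pow_eq_one h3)
    exact orderOf_eq_one_iff.1 h6
  have h3 : ¬ 3 ∣ Nat.card M := by
    intro h
    have hb : b' ∈ M := Cfsg.Agent.SporadicB.J1.Crit.mem_of_pow_prime M (by norm_num) h (by rw [D.card_C]; norm_num)
      (Subtype.ext D.b3)
    have h1 : (QuotientGroup.mk' P b') * (QuotientGroup.mk' P b') =
        QuotientGroup.mk' P (b' * (g' * b' * g'⁻¹)) := by
      rw [map_mul, hcen b' hb g']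
    have h2 : (b' * (g' * b' * g'⁻¹)) * (b' * (g' * b' * g'⁻¹)) = 1 := Subtype.ext D.hb
    have h3 : (QuotientGroup.mk' P b') ^ 4 = 1 := by
      have e1 : (QuotientGroup.mk' P b') ^ 4 = ((QuotientGroup.mk' P b') * (QuotientGroup.mk' P b')) *
        ((QuotientGroup.mk' P b') * (QuotientGroup.mk' P b')) := by
          simp only [pow_succ, pow_zero, one_mul, mul_assoc]
      rw [e1, h1, ← map_mul, h2, map_one]
    have h4 : b' ^ 3 = 1 := Subtype.ext D.b3
    have h5 : (QuotientGroup.mk' P b') ^ 3 = 1 := by rw [← map_pow, h4, map_one]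
    have h6 : QuotientGroup.mk' P b' = 1 := by
      have e1 : (QuotientGroup.mk' P b') ^ 4 = (QuotientGroup.mk' P b') ^ 3 * QuotientGroup.mk' P b' := pow_succ _ _
      rw [h3, h5, one_mul] at e1
      exact e1.symm
    exact D.b1 (congrArg Subtype.val (hodd b' 3 (by decide) h4 h6))
  have h5 : ¬ 5 ∣ Nat.card M := by
    intro h
    have hb : c' ∈ M := Cfsg.Agent.SporadicB.J1.Crit.mem_of_pow_prime M (by norm_num) h (by rw [D.card_C]; norm_num)
      (Subtype.ext D.c5)
    have h1 : (QuotientGroup.mk' P c') ^ 3 =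
        QuotientGroup.mk' P (c' * (k' * (c' * c') * k'⁻¹)) := by
      rw [map_mul, hcen _ (M.mul_mem hb hb) k', map_mul]
      simp only [pow_succ, pow_zero, one_mul, mul_assoc]
    have h2 : (c' * (k' * (c' * c') * k'⁻¹)) * (c' * (k' * (c' * c') * k'⁻¹)) = 1 := Subtype.ext D.hc
    have h3 : (QuotientGroup.mk' P c') ^ 6 = 1 := by
      have e1 : (QuotientGroup.mk' P c') ^ 6 = (QuotientGroup.mk' P c') ^ 3 * (QuotientGroup.mk' P c') ^ 3 := by
        rw [← pow_add]
      rw [e1, h1, ← map_mul, h2, map_one]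
    have h4 : c' ^ 5 = 1 := Subtype.ext D.c5
    have h5 : (QuotientGroup.mk' P c') ^ 5 = 1 := by rw [← map_pow, h4, map_one]
    have h6 : QuotientGroup.mk' P c' = 1 := by
      have e1 : (QuotientGroup.mk' P c') ^ 6 = (QuotientGroup.mk' P c') ^ 5 * QuotientGroup.mk' P c' := pow_succ _ _
      rw [h3, h5, one_mul] at e1
      exact e1.symm
    exact D.c1 (congrArg Subtype.val (hodd c' 5 (by decide) h4 h6))
  have hdvd : Nat.card M ∣ 8 := by
    have h1 : Nat.card M ∣ 8 * (3 * 5) := by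
      have := card_subgroup_dvd_card M
      rwa [D.card_C] at this
    have c3 : Nat.Coprime (Nat.card M) 3 := ((Nat.Prime.coprime_iff_not_dvd (by norm_num)).2 h3).symm
    have c5 : Nat.Coprime (Nat.card M) 5 := ((Nat.Prime.coprime_iff_not_dvd (by norm_num)).2 h5).symm
    exact (c3.mul_right c5).dvd_of_dvd_mul_right h1
  have hMp : IsPGroup 2 M := by
    obtain ⟨k, -, hk⟩ := (Nat.dvd_prime_pow Nat.prime_two).1 (show Nat.card M ∣ 2 ^ 3 from hdvd)
    exact IsPGroup.of_card hk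
  obtain ⟨S, hS⟩ := (hMp.map C.subtype).exists_le_sylow
  exact (D.bal.syl S).2 y (hS ⟨y', hyM, rfl⟩)

theorem key_J1 : Key Spor.J1 := by
  obtain ⟨D⟩ := Cfsg.Agent.UGT.EndJ1.Data.exists_dat
  exact key_of_dat D

variable {G : Type u} [Group G] [Finite G] {N : Subgroup G} {x : G}

omit [Finite G] in
theorem eq_top (hN : N.Normal) (hC : centralizer (N : Set G) = ⊥) (h : Spor.IsoJ1 N) : N = ⊤ := by
  obtain ⟨e⟩ := h
  rw [eq_top_iff]
  intro g _
  let α : MulAut Spor.J1 := (e.symm.trans (MulAut.conjNormal g : MulAut N)).trans e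
  obtain ⟨k, hk⟩ := Cfsg.Agent.OddHalf.D4.Spor.J1Out.inn α
  let s : N := e.symm k
  have h1 : ∀ y : N, g * (y : G) * g⁻¹ = s * (y : G) * (s : G)⁻¹ := by
    intro y
    have h2 : α (e y) = MulAut.conj k (e y) := by rw [hk]
    have h3 : e ((MulAut.conjNormal g : MulAut N) y) = k * e y * k⁻¹ := by
      have : α (e y) = e ((MulAut.conjNormal g : MulAut N) y) := by
        show e ((MulAut.conjNormal g : MulAut N) (e.symm (e y))) = _
        rw [e.symm_apply_apply]
      rw [← this, h2]; rfl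
    have h4 : (MulAut.conjNormal g : MulAut N) y = s * y * s⁻¹ := by
      apply e.injective
      rw [h3, map_mul, map_mul, map_inv, e.apply_symm_apply]
    have h5 := congrArg (Subtype.val) h4
    simpa using h5
  have h2 : (s : G)⁻¹ * g ∈ centralizer (N : Set G) := by
    rw [mem_centralizer_iff]
    intro y hy
    have h3 := h1 ⟨y, hy⟩
    change g * y * g⁻¹ = s * y * (s : G)⁻¹ at h3
    have h4 : y = (s : G)⁻¹ * (g * y * g⁻¹) * s := by rw [h3]; group
    calc y * ((s : G)⁻¹ * g) = ((s : G)⁻¹ * (g * y * g⁻¹) * s) * ((s : G)⁻¹ * g) := by rw [← h4]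
      _ = (s : G)⁻¹ * g * y := by group
  rw [hC, mem_bot] at h2
  rw [← inv_mul_eq_one.1 h2]
  exact s.2

/-- **The row of `J₁`.** -/
theorem row_j1 (h : Wk 2 N x) (hx2 : 2 ∣ orderOf x) (hN : Spor.IsoJ1 N) : False := by
  have hNt : N = ⊤ := eq_top h.normal h.cent hN
  obtain ⟨e⟩ := hN
  have hkey : Key G := Key.congr (((MulEquiv.subgroupCongr hNt).trans topEquiv).symm.trans e) key_J1
  -- the involution in `⟨x⟩`
  obtain ⟨m, hm⟩ := hx2
  have hm0 : m ≠ 0 := by
    rintro rfl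
    have := orderOf_pos x
    omega
  have hxo : orderOf (x ^ m) = 2 := by
    rw [orderOf_pow' x hm0, hm]
    have : Nat.gcd (2 * m) m = m := Nat.gcd_eq_right (Dvd.intro_left 2 rfl)
    rw [this]
    exact Nat.mul_div_left 2 (Nat.pos_of_ne_zero hm0)
  set z := x ^ m with hz
  have hzz : z * z = 1 := by rw [← pow_two, ← hxo]; exact pow_orderOf_eq_one z
  have hz1 : z ≠ 1 := by
    intro h1; rw [h1, orderOf_one] at hxo; norm_num at hxo
  have hxz : x * z = z * x := by rw [hz, ← pow_succ, ← pow_succ']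
  set D := centralizer ({z} : Set G) with hD
  have hDt : D ≠ ⊤ := by
    intro h1
    have h2 : z ∈ centralizer (N : Set G) := by
      rw [mem_centralizer_iff]
      intro s _
      have : s ∈ D := by rw [h1]; trivial
      exact mem_centralizer_singleton_iff.1 this
    rw [h.cent, mem_bot] at h2
    exact hz1 h2
  have hind := h.ind D (mem_centralizer_singleton_iff.2 hxz) hDt
  apply not_sq h
  refine hkey z x hzz hz1 hxz ((pCore 2 D).map D.subtype) ((Cfsg.Agent.Lib.Cores.pCore_isPGroup 2).map _) ?_ ?_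
  · rintro c _ hc ⟨q, hq, rfl⟩
    refine ⟨⟨c, mem_centralizer_singleton_iff.2 hc⟩ * q * ⟨c, mem_centralizer_singleton_iff.2 hc⟩⁻¹, ?_, rfl⟩
    exact Subgroup.Normal.conj_mem inferInstance q hq _
  · intro d hd
    exact hind d (mem_centralizer_singleton_iff.2 hd)

end Cfsg.Agent.H486.TwoJ1
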