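import Cfsg.Agent.H516.TwoFrame
import Cfsg.Agent.QTNorm.Main
import Cfsg.Agent.Omega.TwoF.MathieuRK
import Cfsg.Agent.SectRankFour.AutM11

/-!
# S4094 at the prime 2: the row of `M₁₁`

* `mem_of_inner` : `x ∈ N` if every automorphism of `N` is inner;
* `false_of_odd` : `G = N`, self-normalizing Sylow 2-subgroups, a Sylow 2-subgroup `T` normalizing a subgroup `E ≠ 1` of
  odd order with `C(E) ≤ E` : no minimal counterexample.
-/

set_option autoImplicit false

namespace Cfsg.Agent.H486.TwoM11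

open Subgroup Cfsg
open Cfsg.Agent.H472.ComRed
open Cfsg.Agent.H516.Zip
open Cfsg.Agent.H516.Two

universe u

variable {G : Type u} [Group G] [Finite G] {N : Subgroup G} {x : G}

omit [Finite G] in
theorem eq_top_of_inner (hN : N.Normal) (hC : centralizer (N : Set G) = ⊥)
    (hi : ∀ α : MulAut N, ∃ g : N, ∀ y, α y = g * y * g⁻¹) : N = ⊤ := by
  rw [eq_top_iff]
  intro g _
  obtain ⟨s, hs⟩ := hi (MulAut.conjNormal g : MulAut N)
  have h1 : ∀ y : N, g * (y : G) * g⁻¹ = s * (y : G) * (s : G)⁻¹ := by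
    intro y
    have h5 := congrArg (Subtype.val) (hs y)
    simpa using h5
  have h2 : (s : G)⁻¹ * g ∈ centralizer (N : Set G) := by
    rw [mem_centralizer_iff]
    intro y hy
    have h3 := h1 ⟨y, hy⟩
    change g * y * g⁻¹ = s * y * (s : G)⁻¹ at h3
    have h4 : y = (s : G)⁻¹ * (g * y * g⁻¹) * s := by rw [h3]; group
    calc y * ((s : G)⁻¹ * g) = ((s : G)⁻¹ * (g * y * g⁻¹) * s) * ((s : G)⁻¹ * g) := by rw [← h4]
      _ = (s : G)⁻¹ * g * y := by group
  rw [hC, mem_bot] at h2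
  rw [← inv_mul_eq_one.1 h2]
  exact s.2

/-- the criterion with a subgroup of odd order -/
theorem false_of_odd (h : Wk 2 N x) (hx2 : 2 ∣ orderOf x)
    (hself : ∀ T : Sylow 2 G, normalizer ((T : Subgroup G) : Set G) ≤ (T : Subgroup G))
    (hE : ∀ T : Sylow 2 G, ∃ E : Subgroup G, normalizer (E : Set G) ≠ ⊤ ∧ (T : Subgroup G) ≤ normalizer (E : Set G) ∧
      Odd (Nat.card E) ∧ centralizer (E : Set G) ≤ E) : False := by
  have h2 : Fact (Nat.Prime 2) := ⟨Nat.prime_two⟩
  obtain ⟨T, hT, hxT⟩ := exists_mx_norm h hx2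
  let TS : Sylow 2 G :=
    { toSubgroup := T
      isPGroup' := hT.pg
      is_maximal' := fun {Q} hQ hTQ => le_antisymm (hT.max Q le_top hQ hTQ) hTQ }
  have hxT' : x ∈ T := hself TS hxT
  obtain ⟨E, hEt, hTE, hodd, hCE⟩ := hE TS
  have hxD : x ∈ normalizer (E : Set G) := hTE hxT'
  have hind := h.ind _ hxD hEt
  -- `x` centralizes `E`
  have hop : ∀ y : G, y ∈ E → y ∈ (pCore 2 (normalizer (E : Set G))).map (normalizer (E : Set G)).subtype → y = 1 := by
    intro y hy hy'
    have hp : IsPGroup 2 ((pCore 2 (normalizer (E : Set G))).map (normalizer (E : Set G)).subtype) :=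
      (Cfsg.Agent.Lib.Cores.pCore_isPGroup 2).map _
    obtain ⟨k, hk⟩ := hp ⟨y, hy'⟩
    have h3 : y ^ 2 ^ k = 1 := congrArg Subtype.val hk
    have h4 : orderOf y ∣ Nat.card E := by
      have := orderOf_dvd_natCard (⟨y, hy⟩ : E)
      rwa [Subgroup.orderOf_mk] at this
    have h5 : Nat.Coprime (Nat.card E) (2 ^ k) := (Nat.Coprime.pow_left k (Nat.coprime_two_left.2 hodd)).symm
    have h6 := Nat.Coprime.eq_one_of_dvd (Nat.Coprime.coprime_dvd_left h4 h5) (orderOf_dvd_of_pow_eq_one h3)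
    exact orderOf_eq_one_iff.1 h6
  have hxE : x ∈ E := by
    apply hCE
    rw [mem_centralizer_iff]
    intro d hd
    have h1 : cm x d ∈ E := by
      rw [cm_eq]
      refine E.mul_mem (E.inv_mem ?_) hd
      have := (mem_normalizer_iff.1 (inv_mem hxD) d).1 hd
      rwa [inv_inv] at this
    have h3 := hop _ h1 (hind d (le_normalizer hd))
    exact (cm_eq_one.1 h3).symm
  have h4 : orderOf x ∣ Nat.card E := by
    have := orderOf_dvd_natCard (⟨x, hxE⟩ : E)
    rwa [Subgroup.orderOf_mk] at this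
  exact (Nat.not_even_iff_odd.2 hodd) (even_iff_two_dvd.2 (hx2.trans h4))

/-- **The row of `M₁₁`.** -/
theorem row_m11 (h : Wk 2 N x) (hx2 : 2 ∣ orderOf x) (hN : Spor.IsoM11 N) : False := by
  have h2 : Fact (Nat.Prime 2) := ⟨Nat.prime_two⟩
  have h3 : Fact (Nat.Prime 3) := ⟨Nat.prime_three⟩
  have hs := h.simple
  have hM : Cfsg.IsM11 N := by
    refine ⟨hs, ?_⟩
    obtain ⟨e⟩ := hN
    rw [Nat.card_congr e.toEquiv]
    exact Cfsg.Agent.Omega.TwoF.isM11.2
  have hNt : N = ⊤ := eq_top_of_inner h.normal h.cent fun α => by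
    obtain ⟨g, hg⟩ := Cfsg.Agent.SectRankFour.AutM11.exists_conj hM α
    exact ⟨g, fun y => by rw [hg]; rfl⟩
  let e : N ≃* G := (MulEquiv.subgroupCongr hNt).trans topEquiv
  have hG : Cfsg.IsM11 G := ⟨e.symm.isSimpleGroup, by rw [← Nat.card_congr e.toEquiv]; exact hM.2⟩
  have hI : Spor.IsoM11 G := by
    obtain ⟨f⟩ := hN
    exact ⟨e.symm.trans f⟩
  refine false_of_odd h hx2 (Cfsg.Agent.QTNorm.selfN_m11 hI) fun T => ?_
  -- a Sylow 3-subgroup normalized by `T`
  obtain ⟨P⟩ : Nonempty (Sylow 3 G) := inferInstance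
  have hPn := Cfsg.Agent.SporadicA.M11Norm3.card_normalizer_three hG P
  set D := normalizer ((P : Subgroup G) : Set G) with hD
  obtain ⟨S⟩ : Nonempty (Sylow 2 D) := inferInstance
  have hSc : Nat.card S = 16 := by
    rw [S.card_eq_multiplicity, hPn]
    decide +kernel
  have hS' : Nat.card ((S : Subgroup D).map D.subtype) = 16 := by
    rw [card_map_of_injective D.subtype_injective, ← hSc]
  have hTc : Nat.card T = 16 := by
    rw [T.card_eq_multiplicity, hG.2]
    decide +kernel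
  obtain ⟨Q, hQ⟩ := (S.isPGroup'.map D.subtype).exists_le_sylow
  have hQc : Nat.card Q = 16 := by
    rw [Q.card_eq_multiplicity, hG.2]
    decide +kernel
  have hQe : (Q : Subgroup G) = (S : Subgroup D).map D.subtype := by
    symm
    apply eq_of_le_of_card_ge hQ
    rw [hS']
    exact hQc.le
  obtain ⟨g, hg⟩ := MulAction.exists_smul_eq G Q T
  have hP9 : Nat.card (g • P : Sylow 3 G) = 9 := by
    rw [(g • P : Sylow 3 G).card_eq_multiplicity, hG.2]
    decide +kernel
  refine ⟨((g • P : Sylow 3 G) : Subgroup G), ?_, ?_, ?_, ?_⟩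
  · intro h1
    have h4 := Cfsg.Agent.SporadicA.M11Norm3.card_normalizer_three hG (g • P)
    rw [h1, card_top, hG.2] at h4
    omega
  · intro t ht
    rw [← hg] at ht
    obtain ⟨q, hq, rfl⟩ : ∃ q ∈ (Q : Subgroup G), g * q * g⁻¹ = t := ht
    rw [hQe] at hq
    obtain ⟨s, hs, rfl⟩ := hq
    have h1 : (s : G) ∈ normalizer ((P : Subgroup G) : Set G) := s.2
    rw [mem_normalizer_iff] at h1 ⊢
    have hmem : ∀ y : G, y ∈ ((g • P : Sylow 3 G) : Subgroup G) ↔ g⁻¹ * y * g ∈ (P : Subgroup G) := by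
      intro y
      constructor
      · rintro ⟨w, hw, hwy⟩
        have h5 : g * w * g⁻¹ = y := hwy
        rw [← h5]
        have e1 : g⁻¹ * (g * w * g⁻¹) * g = w := by group
        rw [e1]
        exact hw
      · intro hy
        exact ⟨_, hy, by
          show g * (g⁻¹ * y * g) * g⁻¹ = y
          group⟩
    intro y
    change y ∈ ((g • P : Sylow 3 G) : Subgroup G) ↔ _ ∈ ((g • P : Sylow 3 G) : Subgroup G)
    rw [hmem, hmem]
    have h5 := h1 (g⁻¹ * y * g)
    rw [h5]
    have e1 : g⁻¹ * (g * D.subtype s * g⁻¹ * y * (g * D.subtype s * g⁻¹)⁻¹) * g =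
      (s : G) * (g⁻¹ * y * g) * (s : G)⁻¹ := by
      show g⁻¹ * (g * (s : G) * g⁻¹ * y * (g * (s : G) * g⁻¹)⁻¹) * g = _
      group
    rw [e1]
  · change Odd (Nat.card (g • P : Sylow 3 G))
    rw [hP9]
    decide
  · exact (Cfsg.Agent.SporadicA.M11Facts2.centralizer_sylow_three hG (g • P)).le

end Cfsg.Agent.H486.TwoM11
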