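import Cfsg.Agent.H516.TwoFrame
import Cfsg.Agent.QTUnique.MTwelve

/-!
# S4094 at the prime 2: the row of `M₁₂`
-/

set_option autoImplicit false

namespace Cfsg.Agent.H486.TwoM12

open Subgroup Cfsg Cfsg.Agent.GH.Pc Cfsg.Agent.GH.Models.Proj Cfsg.Agent.CoThreeStd.M12
open Cfsg.Agent.QTUnique Cfsg.Agent.QTUnique.MTwelve
open Cfsg.Agent.H516.Zip
open Cfsg.Agent.H516.Two

universe u

/-- the word of an exponent vector -/
def W (e : Fin 6 → Bool) : List (Fin 6) := ((List.finRange 6).filter fun i => e i).flatMap xw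

theorem nf_W (e : Fin 6 → Bool) : nf x e = el (W e) := by
  unfold nf
  rw [word_x]
  rfl

def cenc (e : Fin 6 → Bool) : Bool :=
  isZ e || (Nat.beq (wt (W e)) (wt (xw 5))) ||
    (List.finRange 6).any fun i => !(Nat.beq (wt (W e ++ xw i)) (wt (xw i ++ W e)))

def secc (e : Fin 6 → Bool) : Bool :=
  (!(e 0) && !(e 1) && !(e 2) && !(e 3)) || !(Nat.beq (wt (W e ++ W e)) oneT) ||
    (List.finRange 6).any fun i => !(Nat.beq (wt (W e ++ xw i)) (wt (xw i ++ W e))) &&
      !(Nat.beq (wt (W e ++ xw i)) (wt (xw 5 ++ (xw i ++ W e))))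

theorem cen_chk : allB 6 cenc = true := by decide +kernel

theorem sec_chk : allB 6 secc = true := by decide +kernel

theorem x5_ne : x 5 ≠ 1 := by
  intro h2
  rw [x, ← el_nil, el_eq_iff] at h2
  exact absurd h2 (by decide +kernel)

theorem x5_comm (i : Fin 6) : x i * x 5 = x 5 * x i := by
  show el (xw i) * el (xw 5) = el (xw 5) * el (xw i)
  rw [← el_append, ← el_append]
  exact el_eq (x_comm i)

theorem T_comm {t : G12} (ht : t ∈ closure (Set.range x)) : t * x 5 = x 5 * t := by
  have h : closure (Set.range x) ≤ centralizer ({x 5} : Set G12) := by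
    rw [closure_le]
    rintro _ ⟨i, rfl⟩
    exact mem_centralizer_singleton_iff.2 (x5_comm i)
  exact mem_centralizer_singleton_iff.1 (h ht)

theorem center_T {y : G12} (hy : y ∈ closure (Set.range x)) (h : ∀ i, x i * y = y * x i) : y = 1 ∨ y = x 5 := by
  obtain ⟨e, rfl⟩ := exists_nf P_ok sat hy
  have h1 := allB_spec cen_chk e
  rw [cenc, Bool.or_eq_true, Bool.or_eq_true, List.any_eq_true] at h1
  rcases h1 with (h1 | h1) | ⟨i, -, h1⟩
  · left
    rw [isZ_spec h1, nf_W, ← el_nil]
    exact el_eq (by decide +kernel)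
  · right
    rw [nf_W]
    exact el_eq (Nat.eq_of_beq_eq_true h1)
  · exfalso
    have h2 := h i
    rw [nf_W] at h2
    have h3 : el (W e ++ xw i) = el (xw i ++ W e) := by
      rw [el_append, el_append]
      exact h2.symm
    rw [el_eq_iff] at h3
    rw [h3, Nat.beq_refl] at h1
    exact absurd h1 (by decide)

/-- the four-group -/
def U : Subgroup G12 := closure (Set.range fun i => el (uw i))

theorem x4_mem : x 4 ∈ U := Subgroup.subset_closure ⟨0, rfl⟩
theorem x5_mem : x 5 ∈ U := Subgroup.subset_closure ⟨1, rfl⟩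

theorem mem_U_iff (y : G12) : y ∈ U ↔ y = 1 ∨ y = x 4 ∨ y = x 5 ∨ y = x 4 * x 5 := by
  have h44 : x 4 * x 4 = 1 := by
    show el (xw 4) * el (xw 4) = 1
    rw [← el_append, ← el_nil]
    exact el_eq (by decide +kernel)
  have h55 : x 5 * x 5 = 1 := by
    show el (xw 5) * el (xw 5) = 1
    rw [← el_append, ← el_nil]
    exact el_eq (by decide +kernel)
  have h45 : x 4 * x 5 = x 5 * x 4 := x5_comm 4
  constructor
  · intro hy
    refine closure_induction (p := fun y _ => y = 1 ∨ y = x 4 ∨ y = x 5 ∨ y = x 4 * x 5) ?_ ?_ ?_ ?_ hy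
    · rintro _ ⟨i, rfl⟩
      fin_cases i
      · right; left; rfl
      · right; right; left; rfl
    · left; rfl
    · rintro a b - - ha hb
      have e1 : ∀ w : G12, x 4 * (x 4 * w) = w := fun w => by rw [← mul_assoc, h44, one_mul]
      have e3 : ∀ w : G12, x 5 * (x 4 * w) = x 4 * (x 5 * w) := fun w => by rw [← mul_assoc, ← h45, mul_assoc]
      rcases ha with rfl | rfl | rfl | rfl <;> rcases hb with rfl | rfl | rfl | rfl <;>
        simp [mul_assoc, e1, e3, h44, h55, ← h45]
    · rintro a - ha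
      have i4 : (x 4)⁻¹ = x 4 := inv_eq_of_mul_eq_one_right h44
      have i5 : (x 5)⁻¹ = x 5 := inv_eq_of_mul_eq_one_right h55
      rcases ha with rfl | rfl | rfl | rfl
      · left; exact inv_one
      · right; left; exact i4
      · right; right; left; exact i5
      · right; right; right
        rw [mul_inv_rev, i4, i5, ← h45]
  · rintro (rfl | rfl | rfl | rfl)
    · exact one_mem _
    · exact x4_mem
    · exact x5_mem
    · exact mul_mem x4_mem x5_mem

theorem U_le : U ≤ closure (Set.range x) := by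
  unfold U
  rw [closure_le]
  rintro _ ⟨i, rfl⟩
  fin_cases i
  · exact Subgroup.subset_closure ⟨4, rfl⟩
  · exact Subgroup.subset_closure ⟨5, rfl⟩

theorem sec_T {y : G12} (hy : y ∈ closure (Set.range x)) (h1 : y * y = 1)
    (h : ∀ i, y * x i = x i * y ∨ y * x i = x 5 * (x i * y)) : y ∈ U := by
  obtain ⟨e, rfl⟩ := exists_nf P_ok sat hy
  have h2 := allB_spec sec_chk e
  rw [secc, Bool.or_eq_true, Bool.or_eq_true, List.any_eq_true] at h2
  rcases h2 with (h2 | h2) | ⟨i, -, h2⟩
  · simp only [Bool.and_eq_true, Bool.not_eq_true'] at h2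
    obtain ⟨⟨⟨h0, h1'⟩, h2'⟩, h3⟩ := h2
    apply word_mem
    intro i hi
    rw [List.mem_filter] at hi
    have hi' := hi.2
    fin_cases i
    · exfalso; simp only [Fin.zero_eta] at hi'; rw [h0] at hi'; exact absurd hi' (by decide)
    · exfalso; simp only [Fin.mk_one] at hi'; rw [h1'] at hi'; exact absurd hi' (by decide)
    · exfalso; change e 2 = true at hi'; rw [h2'] at hi'; exact absurd hi' (by decide)
    · exfalso; change e 3 = true at hi'; rw [h3] at hi'; exact absurd hi' (by decide)
    · exact x4_mem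
    · exact x5_mem
  · exfalso
    rw [nf_W, ← el_append, ← el_nil, el_eq_iff] at h1
    rw [h1] at h2
    exact absurd h2 (by decide +kernel)
  · exfalso
    have h3 := h i
    rw [Bool.and_eq_true] at h2
    rcases h3 with h3 | h3
    · rw [nf_W] at h3
      have h4 : el (W e ++ xw i) = el (xw i ++ W e) := by
        rw [el_append, el_append]
        exact h3
      rw [el_eq_iff] at h4
      rw [h4, Nat.beq_refl] at h2
      exact absurd h2.1 (by decide)
    · rw [nf_W] at h3
      have h4 : el (W e ++ xw i) = el (xw 5 ++ (xw i ++ W e)) := by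
        rw [el_append, el_append, el_append]
        exact h3
      rw [el_eq_iff] at h4
      rw [h4, Nat.beq_refl] at h2
      exact absurd h2.2 (by decide)

theorem x4_rel {t : G12} (ht : t ∈ closure (Set.range x)) : x 4 * t = t * x 4 ∨ x 4 * t = x 5 * (t * x 4) := by
  have h55 : x 5 * x 5 = 1 := by
    show el (xw 5) * el (xw 5) = 1
    rw [← el_append, ← el_nil]
    exact el_eq (by decide +kernel)
  have hgen : ∀ i : Fin 6, wt (xw 4 ++ xw i) = wt (xw i ++ xw 4) ∨ wt (xw 4 ++ xw i) = wt (xw 5 ++ (xw i ++ xw 4)) := by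
    decide +kernel
  have h5 : x 5 ∈ closure (Set.range x) := Subgroup.subset_closure ⟨5, rfl⟩
  refine closure_induction (p := fun t ht => x 4 * t = t * x 4 ∨ x 4 * t = x 5 * (t * x 4)) ?_ ?_ ?_ ?_ ht
  · rintro _ ⟨i, rfl⟩
    rcases hgen i with h | h
    · left
      show el (xw 4) * el (xw i) = el (xw i) * el (xw 4)
      rw [← el_append, ← el_append]
      exact el_eq h
    · right
      show el (xw 4) * el (xw i) = el (xw 5) * (el (xw i) * el (xw 4))
      rw [← el_append, ← el_append, ← el_append]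
      exact el_eq h
  · left; rw [mul_one, one_mul]
  · intro a b ha hb h1 h2
    have hca : a * x 5 = x 5 * a := T_comm ha
    rcases h1 with h1 | h1 <;> rcases h2 with h2 | h2
    · left
      rw [← mul_assoc, h1, mul_assoc, h2, mul_assoc]
    · right
      calc x 4 * (a * b) = (x 4 * a) * b := (mul_assoc _ _ _).symm
        _ = a * (x 4 * b) := by rw [h1, mul_assoc]
        _ = (a * x 5) * (b * x 4) := by rw [h2, mul_assoc]
        _ = x 5 * (a * b * x 4) := by rw [hca]; simp only [mul_assoc]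
    · right
      calc x 4 * (a * b) = (x 4 * a) * b := (mul_assoc _ _ _).symm
        _ = x 5 * (a * (x 4 * b)) := by rw [h1]; simp only [mul_assoc]
        _ = x 5 * (a * b * x 4) := by rw [h2]; simp only [mul_assoc]
    · left
      calc x 4 * (a * b) = (x 4 * a) * b := (mul_assoc _ _ _).symm
        _ = x 5 * (a * (x 4 * b)) := by rw [h1]; simp only [mul_assoc]
        _ = x 5 * ((a * x 5) * (b * x 4)) := by rw [h2]; simp only [mul_assoc]
        _ = (x 5 * x 5) * (a * b * x 4) := by rw [hca]; simp only [mul_assoc]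
        _ = a * b * x 4 := by rw [h55, one_mul]
  · intro a ha h1
    have hai : a⁻¹ ∈ closure (Set.range x) := inv_mem ha
    have hca : a⁻¹ * x 5 = x 5 * a⁻¹ := T_comm hai
    rcases h1 with h1 | h1
    · left
      calc x 4 * a⁻¹ = a⁻¹ * (a * x 4) * a⁻¹ := by group
        _ = a⁻¹ * (x 4 * a) * a⁻¹ := by rw [h1]
        _ = a⁻¹ * x 4 := by group
    · right
      have h3 : a * x 4 = x 5 * (x 4 * a) := by rw [h1, ← mul_assoc (x 5), h55, one_mul]
      calc x 4 * a⁻¹ = a⁻¹ * (a * x 4) * a⁻¹ := by group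
        _ = a⁻¹ * (x 5 * (x 4 * a)) * a⁻¹ := by rw [h3]
        _ = (a⁻¹ * x 5) * x 4 := by group
        _ = x 5 * (a⁻¹ * x 4) := by rw [hca, mul_assoc]

theorem U_prop {y : G12} (hy : y ∈ U) : y ∈ closure (Set.range x) ∧ y * y = 1 ∧
    ∀ t ∈ closure (Set.range x), y * t = t * y ∨ y * t = x 5 * (t * y) := by
  have h44 : x 4 * x 4 = 1 := by
    show el (xw 4) * el (xw 4) = 1
    rw [← el_append, ← el_nil]
    exact el_eq (by decide +kernel)
  have h55 : x 5 * x 5 = 1 := by
    show el (xw 5) * el (xw 5) = 1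
    rw [← el_append, ← el_nil]
    exact el_eq (by decide +kernel)
  have h45 : x 4 * x 5 = x 5 * x 4 := x5_comm 4
  refine ⟨U_le hy, ?_, fun t ht => ?_⟩
  · rcases (mem_U_iff y).1 hy with rfl | rfl | rfl | rfl
    · exact one_mul 1
    · exact h44
    · exact h55
    · calc x 4 * x 5 * (x 4 * x 5) = x 4 * (x 5 * x 4) * x 5 := by simp only [mul_assoc]
        _ = (x 4 * x 4) * (x 5 * x 5) := by rw [← h45]; simp only [mul_assoc]
        _ = 1 := by rw [h44, h55, one_mul]
  · have hct := T_comm ht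
    rcases (mem_U_iff y).1 hy with rfl | rfl | rfl | rfl
    · left; rw [one_mul, mul_one]
    · exact x4_rel ht
    · left; exact hct.symm
    · rcases x4_rel ht with h | h
      · left
        calc x 4 * x 5 * t = x 4 * (x 5 * t) := mul_assoc _ _ _
          _ = (x 4 * t) * x 5 := by rw [← hct, mul_assoc]
          _ = t * (x 4 * x 5) := by rw [h, mul_assoc]
      · right
        calc x 4 * x 5 * t = x 4 * (x 5 * t) := mul_assoc _ _ _
          _ = (x 4 * t) * x 5 := by rw [← hct, mul_assoc]
          _ = x 5 * (t * (x 4 * x 5)) := by rw [h]; simp only [mul_assoc]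

theorem d_mem : ∀ u ∈ U, el dw * u * (el dw)⁻¹ ∈ U := by
  have h : el dw ∈ normalizer (U : Set G12) := by
    apply GenTools.mem_normalizer_closure'
    rintro _ ⟨i, rfl⟩
    obtain ⟨l, hl⟩ := d_norm i
    have hm : ∀ i : Fin 2, el (uw i) ∈ Subgroup.closure (Set.range fun i : Fin 2 => el (uw i)) := fun i =>
      Subgroup.subset_closure ⟨i, rfl⟩
    refine ⟨el (((List.finRange 2).filter fun i => l i).flatMap uw), el_flatMap_mem uw _ hm _, ?_⟩
    show el dw * el (uw i) = _
    rw [← el_append, ← el_append]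
    exact el_eq hl
  intro u hu
  exact (mem_normalizer_iff.1 h u).1 hu

theorem hgen : closure ({c : G12 | c * x 5 = x 5 * c} ∪ {el dw}) = ⊤ := by
  set Y := closure ({c : G12 | c * x 5 = x 5 * c} ∪ {el dw}) with hY
  have hzm : ∀ w : List (Fin 6), wt (w ++ xw 5) = wt (xw 5 ++ w) → el w ∈ Y := by
    intro w hw
    apply Subgroup.subset_closure
    left
    show el w * el (xw 5) = el (xw 5) * el w
    rw [← el_append, ← el_append]
    exact el_eq hw
  have hg : ∀ k : Fin 8, el (gw k) ∈ Y := by
    intro k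
    unfold gw
    split_ifs with h1 h2
    · exact hzm _ (x_comm _)
    · exact hzm _ c_comm
    · exact Subgroup.subset_closure (Or.inr rfl)
  have hl : ∀ k : Fin 6, lt k ∈ Y := by
    intro k
    rw [← el_single, el_eq (lw_chk k)]
    exact el_flatMap_mem gw Y hg _
  have hel : ∀ w : List (Fin 6), el w ∈ Y := by
    intro w
    induction w with
    | nil => exact one_mem _
    | cons k w ih => rw [el_cons]; exact mul_mem (hl k) ih
  exact Out.eq_top (hel _) (hel _) (hel [0])

theorem nxc_model [IsSimpleGroup G12] : NXC G12 := by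
  obtain ⟨T, hT⟩ := exists_T
  have hm : ∀ y, y ∈ T ↔ y ∈ closure (Set.range x) := fun y => by
    rw [← hT]; rfl
  refine nxc_of_second' noncomm T (z := x 5) (U := U) (n := el dw) x5_ne ((hm _).2 (Subgroup.subset_closure ⟨5, rfl⟩))
    (fun t ht => T_comm ((hm t).1 ht))
    (fun y hy h => center_T ((hm y).1 hy) fun i => h _ ((hm _).2 (Subgroup.subset_closure ⟨i, rfl⟩)))
    (fun y hy h1 h2 => sec_T ((hm y).1 hy) h1 fun i => h2 _ ((hm _).2 (Subgroup.subset_closure ⟨i, rfl⟩)))
    (fun y hy => ⟨(hm y).2 (U_prop hy).1, (U_prop hy).2.1, fun t ht => (U_prop hy).2.2 t ((hm t).1 ht)⟩)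
    d_mem hgen

/-- **`M₁₂`** -/
theorem nxc {S : Type*} [Group S] [Finite S] [IsSimpleGroup S] (h : Spor.IsoM12 S) : NXC S := by
  obtain ⟨e⟩ := h
  have e' : G12 ≃* S := (e.trans equiv).symm
  have hs : IsSimpleGroup G12 := e'.isSimpleGroup
  exact nxc_model.congr e'

/-- **The row of `M₁₂`.** -/
theorem row_m12 {G : Type u} [Group G] [Finite G] {N : Subgroup G} {x : G} (h : Wk 2 N x) (hx2 : 2 ∣ orderOf x)
    (hN : Spor.IsoM12 N) : False := by
  have := h.simple
  exact false_of_nxc h hx2 (nxc hN)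

end Cfsg.Agent.H486.TwoM12
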