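import Cfsg.Agent.H486.Sn

/-!
# A subgroup that does not generate the group with its normally generated overgroups lies in a unique maximal subgroup
-/

set_option autoImplicit false

namespace Cfsg.Agent.H486.UniqueMax

open Cfsg.Agent.H486.Sn

universe u

variable {G : Type u} [Group G]

/-- The proper subgroups in which the normal closure of `A` is everything. -/
def Fam (A : Subgroup G) : Set (Subgroup G) := {H | NC A H ∧ H ≠ ⊤}

/-- `A` lies in a unique maximal subgroup. -/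
def UM (A : Subgroup G) : Prop := ∃ M : Subgroup G, IsCoatom M ∧ A ≤ M ∧ ∀ K : Subgroup G, IsCoatom K → A ≤ K → K = M

/-- The situation of a minimal counterexample. -/
structure Ctx (A M0 Y : Subgroup G) : Prop where
  nc : NC A ⊤
  ne : A ≠ ⊤
  hY : NC A Y
  coatom : IsCoatom M0
  Yle : Y ≤ M0
  Yun : ∀ M : Subgroup G, IsCoatom M → Y ≤ M → M = M0
  sn : ∀ M : Subgroup G, IsCoatom M → A ≤ M → M ≠ M0 → SN A M
  min : ∀ B : Subgroup G, Nat.card A < Nat.card B → (∃ g, cj g A ≤ B) → B ≠ ⊤ → sSup (Fam B) ≠ ⊤ → UM B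

/-- `A'` is a conjugate of `A` and `ω` the corresponding conjugate of `M0`. -/
def Typ (A M0 A' ω : Subgroup G) : Prop := ∃ g : G, A' = cj g A ∧ ω = cj g M0

section

variable {A M0 Y : Subgroup G} (c : Ctx A M0 Y)
include c

theorem typ_le {A' ω : Subgroup G} (h : Typ A M0 A' ω) : A' ≤ ω := by
  obtain ⟨g, rfl, rfl⟩ := h
  exact cj_le.2 (c.hY.1.trans c.Yle)

theorem typ_coatom {A' ω : Subgroup G} (h : Typ A M0 A' ω) : IsCoatom ω := by
  obtain ⟨g, rfl, rfl⟩ := h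
  exact isCoatom_cj.2 c.coatom

omit c in
theorem typ_cj {A' ω : Subgroup G} (h : Typ A M0 A' ω) (x : G) : Typ A M0 (cj x A') (cj x ω) := by
  obtain ⟨g, rfl, rfl⟩ := h
  exact ⟨x * g, (cj_mul _ _ _).symm, (cj_mul _ _ _).symm⟩

omit c in
theorem typ_card {A' ω : Subgroup G} (h : Typ A M0 A' ω) : Nat.card A' = Nat.card A := by
  obtain ⟨g, rfl, rfl⟩ := h
  exact card_cj g A

theorem typ_sn {A' ω X : Subgroup G} (h : Typ A M0 A' ω) (hX : IsCoatom X) (hle : A' ≤ X) (hne : X ≠ ω) :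
    SN A' X := by
  obtain ⟨g, rfl, rfl⟩ := h
  have h1 : SN A (cj g⁻¹ X) := by
    apply c.sn _ (isCoatom_cj.2 hX)
    · rw [← cj_inv_cj g A]; exact cj_le.2 hle
    · intro h2
      apply hne
      rw [← h2, cj_cj_inv]
  have h2 := h1.cj g
  rwa [cj_cj_inv] at h2

theorem typ_uniq_over {A' ω D Z : Subgroup G} (h : Typ A M0 A' ω) (hD : SN D ω) (hle : A' ≤ D)
    (hZ : IsCoatom Z) (hDZ : D ≤ Z) : Z = ω := by
  obtain ⟨g, rfl, rfl⟩ := h
  have h1 : SN (cj g⁻¹ D) M0 := by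
    have := hD.cj g⁻¹
    rwa [cj_inv_cj] at this
  have h2 : A ≤ cj g⁻¹ D := by rw [← cj_inv_cj g A]; exact cj_le.2 hle
  have h3 : cj g⁻¹ D ⊓ Y = Y := c.hY.eq_of_sn (le_inf h2 c.hY.1) (h1.inf c.Yle)
  have h4 : Y ≤ cj g⁻¹ Z := by
    rw [← h3]
    exact inf_le_left.trans (cj_le.2 hDZ)
  have h5 := c.Yun _ (isCoatom_cj.2 hZ) h4
  rw [← h5, cj_cj_inv]

theorem typ_uniq {A' ω ω' : Subgroup G} (h : Typ A M0 A' ω) (h' : Typ A M0 A' ω') : ω = ω' := by
  by_contra hne
  have h1 := typ_sn c h (typ_coatom c h') (typ_le c h') (Ne.symm hne)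
  exact hne (typ_uniq_over c h' h1 le_rfl (typ_coatom c h) (typ_le c h))

omit c in
/-- A normal subgroup containing a conjugate of `A` is everything. -/
theorem eq_top_of_normalizer (hnc : NC A ⊤) {N : Subgroup G} {g : G} (h : cj g A ≤ N)
    (hn : (⊤ : Subgroup G) ≤ Subgroup.normalizer (N : Set G)) : N = ⊤ := by
  apply hnc.eq_of_normal _ le_top hn
  have h1 : cj g⁻¹ N = N := cj_eq_self_iff.2 (hn (Subgroup.mem_top _))
  rw [← h1, ← cj_inv_cj g A]
  exact cj_le.2 h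

omit c in
theorem mem_of_cj_eq (hnc : NC A ⊤) {W : Subgroup G} (hW : IsCoatom W) {g : G} (h : cj g A ≤ W) {x : G}
    (hx : cj x W = W) : x ∈ W := by
  rw [cj_eq_self_iff] at hx
  by_contra hxW
  have h1 : W < Subgroup.normalizer (W : Set G) :=
    lt_of_le_of_ne Subgroup.le_normalizer (fun h2 => hxW (h2 ▸ hx))
  have h2 := hW.2 _ h1
  exact hW.1 (eq_top_of_normalizer hnc h h2.ge)

variable [Finite G]

/-- **Uniqueness of types** -/
theorem typ_inj {X ω A1 A2 : Subgroup G} (hX : IsCoatom X) (hne : ω ≠ X) (h1 : Typ A M0 A1 ω)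
    (h2 : Typ A M0 A2 ω) (hle1 : A1 ≤ X) (hle2 : A2 ≤ X) : A1 = A2 := by
  by_contra hA
  set T : Set (Subgroup G) := {A' | Typ A M0 A' ω ∧ A' ≤ X} with hT
  have hCX : sSup T ≤ X := sSup_le fun A' h => h.2
  have hCω : sSup T ≤ ω := sSup_le fun A' h => typ_le c h.1
  have hA1 : A1 ≤ sSup T := le_sSup ⟨h1, hle1⟩
  have hA2 : A2 ≤ sSup T := le_sSup ⟨h2, hle2⟩
  have hcard : Nat.card A < Nat.card (sSup T : Subgroup G) := by
    rw [← typ_card h1]
    refine lt_of_le_of_ne (Subgroup.card_le_of_le hA1) (fun h => hA ?_)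
    have h3 : A1 = sSup T := Subgroup.eq_of_le_of_card_ge hA1 h.ge
    have h4 : A2 = sSup T := Subgroup.eq_of_le_of_card_ge hA2 (by rw [typ_card h2, ← typ_card h1]; exact h.ge)
    rw [h3]; exact h4.symm
  have hω := typ_coatom c h1
  obtain ⟨g, hg1, hg2⟩ := h1
  have hfam : ∀ H ∈ Fam (sSup T), H ≤ ω := by
    rintro H ⟨hH, hHt⟩
    obtain ⟨Z, hZ, hHZ⟩ := (eq_top_or_exists_le_coatom H).resolve_left hHt
    by_cases hZω : Z = ω
    · rw [← hZω]; exact hHZ
    · have h3 : SN (sSup T) H := by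
        apply SN.sSup_mem
        intro A' hA'
        have h4 : A' ≤ H := (le_sSup hA').trans hH.1
        exact (typ_sn c hA'.1 hZ (h4.trans hHZ) hZω).restrict h4 hHZ
      rw [← hH.eq_of_sn le_rfl h3]
      exact hCω
  have hYt : sSup (Fam (sSup T)) ≠ ⊤ := by
    intro h
    apply hω.1
    rw [eq_top_iff, ← h]
    exact sSup_le hfam
  obtain ⟨M, hM, _, huniq⟩ := c.min (sSup T) hcard ⟨g, hg1 ▸ hA1⟩ (fun h => hω.1 (top_le_iff.1 (h ▸ hCω))) hYt
  exact hne ((huniq ω hω hCω).trans (huniq X hX hCX).symm)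

end

/-- the join of the conjugates of `A` in `D` whose type is not `W` -/
def DW (A M0 D W : Subgroup G) : Subgroup G := sSup {A' | ∃ ω, Typ A M0 A' ω ∧ ω ≠ W ∧ A' ≤ D}

/-- the set of types in `D` -/
def Om (A M0 D : Subgroup G) : Set (Subgroup G) := {ω | ∃ A', Typ A M0 A' ω ∧ A' ≤ D}

section

variable {A M0 Y : Subgroup G} (c : Ctx A M0 Y) [Finite G]
include c

theorem sn_DW {D W : Subgroup G} (hW : IsCoatom W) (hD : D ≤ W) : SN (DW A M0 D W) W := by
  apply SN.sSup_mem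
  rintro A' ⟨ω, h1, h2, h3⟩
  exact typ_sn c h1 hW (h3.trans hD) h2.symm

omit c [Finite G] in
theorem DW_le {D W : Subgroup G} : DW A M0 D W ≤ D := sSup_le (by rintro A' ⟨ω, _, _, h⟩; exact h)

omit c in
theorem cj_DW_le {D W : Subgroup G} {x : G} (hxW : cj x W = W) (hx : cj x (DW A M0 D W) ≤ D) :
    cj x (DW A M0 D W) = DW A M0 D W := by
  apply eq_of_cj_le
  rw [cj_le_iff]
  apply sSup_le
  rintro A' ⟨ω, h1, h2, h3⟩
  rw [← cj_le_iff]
  apply le_sSup
  refine ⟨cj x ω, typ_cj h1 x, ?_, ?_⟩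
  · intro h
    apply h2
    apply (cj x).injective
    rw [h, hxW]
  · refine le_trans (cj_le.2 ?_) hx
    exact le_sSup ⟨ω, h1, h2, h3⟩

theorem lt_N {W V : Subgroup G} (hW : IsCoatom W) (hV : IsCoatom V) (hWV : W ≠ V) :
    W ⊓ V < W ⊓ Subgroup.normalizer (DW A M0 (W ⊓ V) W : Set G) := by
  set D := W ⊓ V with hD
  set E := DW A M0 D W with hE
  have hED : E ≤ D := DW_le
  have hle : D ≤ W ⊓ Subgroup.normalizer (E : Set G) := by
    refine le_inf inf_le_left (fun d hd => ?_)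
    rw [← cj_eq_self_iff]
    apply cj_DW_le (cj_self (inf_le_left (b := V) hd : d ∈ W))
    calc cj d E ≤ cj d D := cj_le.2 hED
      _ = D := cj_self hd
  refine lt_of_le_of_ne hle (fun heq => ?_)
  have hn : ¬ W ≤ Subgroup.normalizer (E : Set G) := by
    intro h1
    rw [inf_eq_left.2 h1] at heq
    have h2 : W ≤ V := inf_eq_left.1 heq
    rcases hW.le_iff.1 h2 with h3 | h3
    · exact hV.1 h3
    · exact hWV h3.symm
  obtain ⟨x, hxW, hx1, hx2, hx3⟩ := (sn_DW c hW (inf_le_left : D ≤ W)).exists_cj hn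
  exact hx1 (cj_DW_le (cj_self hxW) ((le_inf hx2 hx3).trans heq.ge))

omit c [Finite G] in
theorem cj_mem_Om {D W : Subgroup G} {n : G} (hn : n ∈ W ⊓ Subgroup.normalizer (DW A M0 D W : Set G))
    {ω : Subgroup G} (hω : ω ∈ Om A M0 D) : cj n ω ∈ Om A M0 D := by
  obtain ⟨A', h1, h2⟩ := hω
  by_cases h : ω = W
  · subst h
    rw [cj_self hn.1]
    exact ⟨A', h1, h2⟩
  · refine ⟨cj n A', typ_cj h1 n, ?_⟩
    have h3 : cj n (DW A M0 D W) = DW A M0 D W := cj_eq_self_iff.2 hn.2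
    calc cj n A' ≤ cj n (DW A M0 D W) := cj_le.2 (le_sSup ⟨ω, h1, h, h2⟩)
      _ = DW A M0 D W := h3
      _ ≤ D := DW_le

/-- All types occur in a maximal intersection. -/
theorem exists_pair (h : ¬ UM A) :
    ∃ X Z : Subgroup G, IsCoatom X ∧ IsCoatom Z ∧ X ≠ Z ∧
      (∀ g, ∃ A', Typ A M0 A' (cj g M0) ∧ A' ≤ X ⊓ Z) ∧
      (X ⊓ Subgroup.normalizer (DW A M0 (X ⊓ Z) X : Set G)) ⊔
      (Z ⊓ Subgroup.normalizer (DW A M0 (X ⊓ Z) Z : Set G)) = ⊤ := by
  have hAM : A ≤ M0 := c.hY.1.trans c.Yle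
  obtain ⟨K, hK, hAK, hKM⟩ : ∃ K : Subgroup G, IsCoatom K ∧ A ≤ K ∧ K ≠ M0 := by
    by_contra hcon
    push Not at hcon
    exact h ⟨M0, c.coatom, hAM, hcon⟩
  let S : Set (Subgroup G × Subgroup G) :=
    {p | IsCoatom p.1 ∧ IsCoatom p.2 ∧ p.1 ≠ p.2 ∧ ∃ g, cj g A ≤ p.1 ⊓ p.2}
  obtain ⟨⟨X, Z⟩, ⟨hX, hZ, hXZ, g0, hg0⟩, hmax⟩ := Set.exists_max_image S
    (fun p => Nat.card (p.1 ⊓ p.2 : Subgroup G)) (Set.toFinite _)
    ⟨(K, M0), hK, c.coatom, hKM, 1, by rw [cj_one]; exact le_inf hAK hAM⟩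
  simp only at hX hZ hXZ hg0 hmax
  set NX := X ⊓ Subgroup.normalizer (DW A M0 (X ⊓ Z) X : Set G) with hNX
  set NZ := Z ⊓ Subgroup.normalizer (DW A M0 (X ⊓ Z) Z : Set G) with hNZ
  have hltX : X ⊓ Z < NX := lt_N c hX hZ hXZ
  have hltZ : X ⊓ Z < NZ := by
    have := lt_N c hZ hX hXZ.symm
    rwa [inf_comm Z X] at this
  have htop : NX ⊔ NZ = ⊤ := by
    by_contra hne
    obtain ⟨V, hV, hle⟩ := (eq_top_or_exists_le_coatom (NX ⊔ NZ)).resolve_left hne
    have key : ∀ W N : Subgroup G, IsCoatom W → X ⊓ Z < N → N ≤ W → N ≤ V → V = W := by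
      intro W N hW h1 h2 h3
      by_contra hVW
      have h4 := hmax (V, W) ⟨hV, hW, hVW, g0, hg0.trans (h1.le.trans (le_inf h3 h2))⟩
      have h5 : Nat.card (X ⊓ Z : Subgroup G) < Nat.card N := by
        refine lt_of_le_of_ne (Subgroup.card_le_of_le h1.le) (fun h => h1.ne ?_)
        exact Subgroup.eq_of_le_of_card_ge h1.le h.ge
      have h6 : Nat.card N ≤ Nat.card (V ⊓ W : Subgroup G) := Subgroup.card_le_of_le (le_inf h3 h2)
      simp only at h4
      omega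
    have h1 := key X NX hX hltX inf_le_left (le_sup_left.trans hle)
    have h2 := key Z NZ hZ hltZ inf_le_left (le_sup_right.trans hle)
    exact hXZ (h1.symm.trans h2)
  refine ⟨X, Z, hX, hZ, hXZ, ?_, htop⟩
  have hinv : ∀ n : G, ∀ ω ∈ Om A M0 (X ⊓ Z), cj n ω ∈ Om A M0 (X ⊓ Z) := by
    intro n
    have hn : n ∈ NX ⊔ NZ := by rw [htop]; exact Subgroup.mem_top _
    rw [Subgroup.sup_eq_closure] at hn
    induction hn using Subgroup.closure_induction'' with
    | mem x hx =>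
      intro ω hω
      rcases hx with hx | hx
      · exact cj_mem_Om hx hω
      · exact cj_mem_Om hx hω
    | inv_mem x hx =>
      intro ω hω
      rcases hx with hx | hx
      · exact cj_mem_Om (NX.inv_mem hx) hω
      · exact cj_mem_Om (NZ.inv_mem hx) hω
    | one =>
      intro ω hω
      rwa [cj_one]
    | mul x y _ _ hx hy =>
      intro ω hω
      rw [cj_mul]
      exact hx _ (hy _ hω)
  intro g
  have h1 : cj g0 M0 ∈ Om A M0 (X ⊓ Z) := ⟨cj g0 A, ⟨g0, rfl, rfl⟩, hg0⟩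
  have h2 := hinv (g * g0⁻¹) _ h1
  rw [← cj_mul, inv_mul_cancel_right] at h2
  exact h2

/-- Two distinct types that contain representatives of all types in common. -/
theorem exists_edge (h : ¬ UM A) :
    ∃ g1 g2 : G, cj g1 M0 ≠ cj g2 M0 ∧
      ∀ g, ∃ A', Typ A M0 A' (cj g M0) ∧ A' ≤ cj g1 M0 ⊓ cj g2 M0 := by
  obtain ⟨X, Z, hX, hZ, hXZ, hall, htop⟩ := exists_pair c h
  -- one of them is a type, the other not
  have key : ∀ X Z : Subgroup G, IsCoatom X → IsCoatom Z → X ≠ Z →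
      (∀ g, ∃ A', Typ A M0 A' (cj g M0) ∧ A' ≤ X ⊓ Z) → (¬ ∃ g, X = cj g M0) → (∃ g, Z = cj g M0) →
      ∃ g1 g2 : G, cj g1 M0 ≠ cj g2 M0 ∧
        ∀ g, ∃ A', Typ A M0 A' (cj g M0) ∧ A' ≤ cj g1 M0 ⊓ cj g2 M0 := by
    intro X Z hX hZ hXZ hall hXn hZy
    obtain ⟨g1, hg1⟩ := hZy
    obtain ⟨x, hx, hxZ⟩ : ∃ x ∈ X, x ∉ Z := by
      by_contra hcon
      push Not at hcon
      rcases hX.le_iff.1 (hcon : X ≤ Z) with h3 | h3
      · exact hZ.1 h3
      · exact hXZ h3.symm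
    refine ⟨g1, x * g1, ?_, ?_⟩
    · intro h1
      rw [cj_mul, ← hg1] at h1
      obtain ⟨A', h2, h3⟩ := hall 1
      obtain ⟨k, rfl, _⟩ := h2
      exact hxZ (mem_of_cj_eq c.nc hZ (h3.trans inf_le_right) h1.symm)
    · intro g
      obtain ⟨A', h1, h2⟩ := hall g
      obtain ⟨A'', h3, h4⟩ := hall (x⁻¹ * g)
      have h5 : Typ A M0 (cj x A'') (cj g M0) := by
        have := typ_cj h3 x
        rwa [← cj_mul, mul_inv_cancel_left] at this
      have h6 : cj x A'' ≤ X := by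
        calc cj x A'' ≤ cj x X := cj_le.2 (h4.trans inf_le_left)
          _ = X := cj_self hx
      have h7 : A' = cj x A'' := typ_inj c hX (fun h => hXn ⟨g, h.symm⟩) h1 h5 (h2.trans inf_le_left) h6
      refine ⟨A', h1, le_inf (hg1 ▸ h2.trans inf_le_right) ?_⟩
      rw [h7, cj_mul, ← hg1]
      exact cj_le.2 (h4.trans inf_le_right)
  by_cases hXy : ∃ g, X = cj g M0
  · by_cases hZy : ∃ g, Z = cj g M0
    · obtain ⟨g1, rfl⟩ := hXy
      obtain ⟨g2, rfl⟩ := hZy
      exact ⟨g1, g2, hXZ, hall⟩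
    · exact key Z X hZ hX hXZ.symm (by simpa only [inf_comm Z X] using hall) hZy hXy
  · by_cases hZy : ∃ g, Z = cj g M0
    · exact key X Z hX hZ hXZ hall hXy hZy
    · exfalso
      have hDD : DW A M0 (X ⊓ Z) X = DW A M0 (X ⊓ Z) Z := by
        unfold DW
        congr 1
        ext A'
        constructor
        · rintro ⟨ω, h1, _, h3⟩
          refine ⟨ω, h1, ?_, h3⟩
          rintro rfl
          obtain ⟨g, _, h4⟩ := h1
          exact hZy ⟨g, h4⟩
        · rintro ⟨ω, h1, _, h3⟩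
          refine ⟨ω, h1, ?_, h3⟩
          rintro rfl
          obtain ⟨g, _, h4⟩ := h1
          exact hXy ⟨g, h4⟩
      obtain ⟨A', h1, h2⟩ := hall 1
      have h3 : A' ≤ DW A M0 (X ⊓ Z) X := by
        apply le_sSup
        refine ⟨_, h1, ?_, h2⟩
        intro h
        exact hXy ⟨1, h.symm⟩
      obtain ⟨g, rfl, _⟩ := h1
      have h4 : DW A M0 (X ⊓ Z) X = ⊤ := by
        apply eq_top_of_normalizer c.nc h3
        rw [← htop]
        refine sup_le inf_le_right ?_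
        rw [hDD]
        exact inf_le_right
      apply hX.1
      rw [eq_top_iff, ← h4]
      exact DW_le.trans inf_le_left

end

section graph

variable {A M0 Y : Subgroup G}

/-- The vertices. -/
abbrev Vx (M0 : Subgroup G) : Type u := {ω : Subgroup G // ∃ g, ω = cj g M0}

/-- The graph. -/
def Gr (A M0 : Subgroup G) : SimpleGraph (Vx M0) where
  Adj a b := a ≠ b ∧ ∀ g, ∃ A', Typ A M0 A' (cj g M0) ∧ A' ≤ (a : Subgroup G) ⊓ b
  symm := ⟨fun a b h => ⟨h.1.symm, fun g => by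
    obtain ⟨A', h1, h2⟩ := h.2 g
    exact ⟨A', h1, by rwa [inf_comm]⟩⟩⟩
  loopless := ⟨fun a h => h.1 rfl⟩

/-- the action on vertices -/
def act (x : G) (a : Vx M0) : Vx M0 := ⟨cj x a, by
  obtain ⟨g, hg⟩ := a.2
  exact ⟨x * g, by rw [hg, cj_mul]⟩⟩

theorem act_mul (x y : G) (a : Vx M0) : act (x * y) a = act x (act y a) := Subtype.ext (cj_mul _ _ _)

theorem act_inv_act (x : G) (a : Vx M0) : act x⁻¹ (act x a) = a := Subtype.ext (cj_inv_cj _ _)

theorem adj_act {a b : Vx M0} (h : (Gr A M0).Adj a b) (x : G) : (Gr A M0).Adj (act x a) (act x b) := by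
  refine ⟨fun h1 => h.1 ?_, fun g => ?_⟩
  · have := congrArg (act x⁻¹) h1
    rwa [act_inv_act, act_inv_act] at this
  · obtain ⟨A', h1, h2⟩ := h.2 (x⁻¹ * g)
    refine ⟨cj x A', ?_, ?_⟩
    · have := typ_cj h1 x
      rwa [← cj_mul, mul_inv_cancel_left] at this
    · have h3 : cj x A' ≤ cj x ((a : Subgroup G) ⊓ b) := cj_le.2 h2
      rwa [cj_inf] at h3

theorem reach_act {a b : Vx M0} (h : (Gr A M0).Reachable a b) (x : G) :
    (Gr A M0).Reachable (act x a) (act x b) := by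
  obtain ⟨w⟩ := h
  induction w with
  | nil => exact SimpleGraph.Reachable.refl _
  | cons hadj _ ih => exact (adj_act hadj x).reachable.trans ih

variable (c : Ctx A M0 Y)
include c

theorem connected {g1 g2 : G} (hne : cj g1 M0 ≠ cj g2 M0)
    (hall : ∀ g, ∃ A', Typ A M0 A' (cj g M0) ∧ A' ≤ cj g1 M0 ⊓ cj g2 M0) : (Gr A M0).Connected := by
  let v0 : Vx M0 := ⟨M0, 1, (cj_one M0).symm⟩
  let K : Subgroup G :=
    { carrier := {x | (Gr A M0).Reachable v0 (act x v0)}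
      one_mem' := by
        have : act 1 v0 = v0 := Subtype.ext (cj_one _)
        rw [Set.mem_ofPred_eq, this]
      mul_mem' := by
        intro x y hx hy
        rw [Set.mem_ofPred_eq, act_mul]
        exact SimpleGraph.Reachable.trans hx (reach_act hy x)
      inv_mem' := by
        intro x hx
        have h1 := reach_act hx x⁻¹
        rw [act_inv_act] at h1
        exact h1.symm }
  have hMK : M0 ≤ K := by
    intro x hx
    have : act x v0 = v0 := Subtype.ext (cj_self hx)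
    change (Gr A M0).Reachable v0 (act x v0)
    rw [this]
  have hx : g1⁻¹ * g2 ∈ K := by
    have h1 : (Gr A M0).Adj ⟨cj g1 M0, g1, rfl⟩ ⟨cj g2 M0, g2, rfl⟩ :=
      ⟨fun h => hne (congrArg Subtype.val h), hall⟩
    have h2 := adj_act h1 g1⁻¹
    have h3 : act g1⁻¹ (⟨cj g1 M0, g1, rfl⟩ : Vx M0) = v0 := Subtype.ext (cj_inv_cj _ _)
    have h4 : act g1⁻¹ (⟨cj g2 M0, g2, rfl⟩ : Vx M0) = act (g1⁻¹ * g2) v0 :=
      Subtype.ext (cj_mul _ _ _).symm
    rw [h3, h4] at h2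
    exact h2.reachable
  have hx' : g1⁻¹ * g2 ∉ M0 := by
    intro h
    apply hne
    have h1 : cj g1 (cj (g1⁻¹ * g2) M0) = cj g1 M0 := by rw [cj_self h]
    rw [← cj_mul, mul_inv_cancel_left] at h1
    exact h1.symm
  have hK : K = ⊤ := c.coatom.2 K (lt_of_le_of_ne hMK (fun h => hx' (h ▸ hx)))
  have hr : ∀ a : Vx M0, (Gr A M0).Reachable v0 a := by
    rintro ⟨_, g, rfl⟩
    have : g ∈ K := by rw [hK]; exact Subgroup.mem_top _
    exact this
  exact { preconnected := fun a b => (hr a).symm.trans (hr b), nonempty := ⟨v0⟩ }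

theorem um [Finite G] : UM A := by
  by_contra h
  obtain ⟨g1, g2, hne, hall⟩ := exists_edge c h
  have hconn := connected c hne hall
  have : Nontrivial (Vx M0) := ⟨⟨cj g1 M0, g1, rfl⟩, ⟨cj g2 M0, g2, rfl⟩, fun h => hne (congrArg Subtype.val h)⟩
  have : Finite (Vx M0) := inferInstance
  obtain ⟨v, hv⟩ := hconn.exists_connected_induce_compl_singleton_of_finite_nontrivial
  -- another vertex
  obtain ⟨a, hav⟩ := exists_ne v
  -- a conjugate of type `v` in `a`
  obtain ⟨b, hab⟩ : ∃ b, (Gr A M0).Adj a b := by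
    obtain ⟨g, hg⟩ := a.2
    have h1 : (Gr A M0).Adj ⟨cj g1 M0, g1, rfl⟩ ⟨cj g2 M0, g2, rfl⟩ :=
      ⟨fun h => hne (congrArg Subtype.val h), hall⟩
    have h2 := adj_act h1 (g * g1⁻¹)
    have h3 : act (g * g1⁻¹) (⟨cj g1 M0, g1, rfl⟩ : Vx M0) = a := by
      apply Subtype.ext
      change cj (g * g1⁻¹) (cj g1 M0) = a
      rw [← cj_mul, inv_mul_cancel_right, hg]
    rw [h3] at h2
    exact ⟨_, h2⟩
  obtain ⟨gv, hgv⟩ := v.2
  obtain ⟨A', hA', hA'le⟩ := hab.2 gv
  rw [← hgv] at hA'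
  -- it lies in all vertices
  have hallv : ∀ w : Vx M0, A' ≤ (w : Subgroup G) := by
    intro w
    by_cases hwv : w = v
    · rw [hwv]
      exact typ_le c hA'
    · have hr : ((Gr A M0).induce ({v}ᶜ : Set (Vx M0))).Reachable ⟨a, hav⟩ ⟨w, hwv⟩ := hv.preconnected _ _
      have key : ∀ (s t : ({v}ᶜ : Set (Vx M0))), ((Gr A M0).induce ({v}ᶜ : Set (Vx M0))).Walk s t →
          A' ≤ (s.1 : Subgroup G) → A' ≤ (t.1 : Subgroup G) := by
        intro s t p
        induction p with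
        | nil => exact id
        | @cons x y z hxy _ ih =>
          intro hx
          apply ih
          have hxy' : (Gr A M0).Adj x.1 y.1 := hxy
          obtain ⟨A'', h1, h2⟩ := hxy'.2 gv
          rw [← hgv] at h1
          obtain ⟨gx, hgx⟩ := x.1.2
          have hxc : IsCoatom (x.1 : Subgroup G) := by rw [hgx]; exact isCoatom_cj.2 c.coatom
          have h3 : A' = A'' := by
            refine typ_inj c hxc ?_ hA' h1 hx (h2.trans inf_le_left)
            intro h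
            exact x.2 (Subtype.ext h.symm)
          rw [h3]
          exact h2.trans inf_le_right
      obtain ⟨p⟩ := hr
      exact key _ _ p (hA'le.trans inf_le_left)
  -- the core
  let N : Subgroup G := ⨅ w : Vx M0, (w : Subgroup G)
  have hN : (⊤ : Subgroup G) ≤ Subgroup.normalizer (N : Set G) := by
    intro x _
    rw [← cj_eq_self_iff]
    apply eq_of_cj_le
    apply le_iInf
    intro w
    rw [cj_le_iff]
    exact iInf_le (fun w : Vx M0 => (w : Subgroup G)) (act x⁻¹ w)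
  obtain ⟨g, hg, _⟩ := hA'
  have h1 : N = ⊤ := eq_top_of_normalizer (g := g) c.nc (by rw [← hg]; exact le_iInf hallv) hN
  obtain ⟨gv, hgv⟩ := v.2
  have h2 : IsCoatom (v : Subgroup G) := by rw [hgv]; exact isCoatom_cj.2 c.coatom
  apply h2.1
  rw [eq_top_iff, ← h1]
  exact iInf_le (fun w : Vx M0 => (w : Subgroup G)) v

end graph

section main

theorem fam_mem_self {A : Subgroup G} (hA : A ≠ ⊤) : A ∈ Fam A := ⟨NC.refl A, hA⟩

variable [Finite G]

theorem main_aux (n : ℕ) : ∀ A : Subgroup G, Nat.card G - Nat.card A = n → NC A ⊤ → A ≠ ⊤ →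
    sSup (Fam A) ≠ ⊤ → UM A := by
  induction n using Nat.strong_induction_on with
  | _ n ih =>
    intro A hn hnc hA hYt
    have hmin : ∀ B : Subgroup G, Nat.card A < Nat.card B → (∃ g, cj g A ≤ B) → B ≠ ⊤ →
        sSup (Fam B) ≠ ⊤ → UM B := by
      rintro B hcard ⟨g, hg⟩ hB hYB
      have hBG : Nat.card B ≤ Nat.card G := Subgroup.card_le_card_group B
      refine ih (Nat.card G - Nat.card B) (by omega) B rfl ⟨le_top, ?_⟩ hB hYB
      intro N h1 h2 h3
      exact eq_top_of_normalizer hnc (hg.trans h1) h3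
    set Y := sSup (Fam A) with hYdef
    have hAY : A ≤ Y := le_sSup (fam_mem_self hA)
    have hY : NC A Y := NC.sSup_mem ⟨A, fam_mem_self hA⟩ (fun H hH => hH.1)
    by_cases hYA : Y = A
    · -- the zipper lemma
      obtain ⟨M, h1, h2, h3⟩ := Cfsg.Agent.Solvable.Zipper.zipper A (fun H hH hAH => by
        obtain ⟨S, hS1, hS2⟩ := exists_closure hAH
        have hSt : S ≠ ⊤ := fun h => hH.ne (top_le_iff.1 (h ▸ hS1.1))
        have h1 : S ≤ A := by rw [← hYA]; exact le_sSup ⟨hS2, hSt⟩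
        have h2 : S = A := le_antisymm h1 hS2.1
        rw [← h2]
        exact hS1.2) (fun hs => hA (hnc.eq_of_sn le_rfl (SN.top_iff.2 hs)))
      exact ⟨M, h1, h2, h3⟩
    · have hcard : ∀ B : Subgroup G, A ≤ B → B ≠ A → Nat.card A < Nat.card B := by
        intro B h1 h2
        refine lt_of_le_of_ne (Subgroup.card_le_of_le h1) (fun h => h2 ?_)
        exact (Subgroup.eq_of_le_of_card_ge h1 h.ge).symm
      have hfam : ∀ B ∈ Fam A, B ≠ A → UM B := by
        rintro B ⟨hB1, hB2⟩ hBA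
        refine hmin B (hcard B hB1.1 hBA) ⟨1, by rw [cj_one]; exact hB1.1⟩ hB2 ?_
        intro h
        apply hYt
        rw [eq_top_iff, ← h]
        exact sSup_le_sSup (fun H hH => ⟨hB1.trans hH.1, hH.2⟩)
      obtain ⟨M0, hM0, hYM0, hun⟩ := hfam Y ⟨hY, hYt⟩ hYA
      refine um (A := A) (M0 := M0) (Y := Y) ⟨hnc, hA, hY, hM0, hYM0, hun, ?_, hmin⟩
      intro M hM hAM hne
      obtain ⟨S, hS1, hS2⟩ := exists_closure hAM
      have hSt : S ≠ ⊤ := fun h => hM.1 (top_le_iff.1 (h ▸ hS1.1))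
      by_cases hSA : S = A
      · rw [← hSA]; exact hS1
      · exfalso
        obtain ⟨M1, _, _, hun1⟩ := hfam S ⟨hS2, hSt⟩ hSA
        have h1 := hun1 M hM hS1.1
        have h2 := hun1 M0 hM0 ((le_sSup ⟨hS2, hSt⟩ : S ≤ Y).trans hYM0)
        exact hne (h1.trans h2.symm)

/-- **Theorem.** If the normal closure of the proper subgroup `A` is `G` and the proper subgroups `H ≥ A` that are
the normal closure of `A` in `H` do not generate `G`, then `A` lies in a unique maximal subgroup of `G`. -/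
theorem main {A : Subgroup G} (hnc : NC A ⊤) (hA : A ≠ ⊤) (hY : sSup (Fam A) ≠ ⊤) : UM A :=
  main_aux _ A rfl hnc hA hY

end main

end Cfsg.Agent.H486.UniqueMax
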